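import Cfsg.Agent.Lib.U3Sylow.Field
import Cfsg.Agent.Lib.AutPSU.Sylow
import Cfsg.Prelude.Def_LieRecognition

/-!
The Sylow `2`-subgroups of `SU_3(q)` and `PSU_3(q)` for even `q`.
-/

set_option autoImplicit false

namespace Cfsg.Agent.Lib.U3Sylow

open Cfsg.Agent.Lib.Classical
open scoped commutatorElement
open Cfsg.Agent.Lib.AutPSU (Cond InW Pair)

universe u v w

variable {F : Type u} [Field F]

/-- The parameters of the root group. -/
def Cnd (q : ℕ) (p : F × F) : Prop := p.2 + p.2 ^ q = N q p.1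

/-- A parametrization by pairs with the multiplication of the root group of `U_3(q)`. -/
structure Shape (F : Type u) [Field F] (q : ℕ) (P : Type v) [Group P] where
  /-- The parameters of an element. -/
  toEquiv : P ≃ {p : F × F // Cnd q p}
  fst_mul : ∀ g h, (toEquiv (g * h)).1.1 = (toEquiv g).1.1 + (toEquiv h).1.1
  snd_mul : ∀ g h, (toEquiv (g * h)).1.2 =
    (toEquiv g).1.2 + (toEquiv h).1.2 + (toEquiv h).1.1 * (toEquiv g).1.1 ^ q

namespace Shape

variable {q : ℕ} {P : Type v} [Group P]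

/-- Transport. -/
def comap (H : Shape F q P) {Q : Type w} [Group Q] (e : Q ≃* P) : Shape F q Q where
  toEquiv := e.toEquiv.trans H.toEquiv
  fst_mul g h := by simp [map_mul, H.fst_mul]
  snd_mul g h := by simp [map_mul, H.snd_mul]

variable (H : Shape F q P)

/-- The image in `F`. -/
def fs (g : P) : F := (H.toEquiv g).1.1

/-- The second coordinate. -/
def sn (g : P) : F := (H.toEquiv g).1.2

theorem cnd (g : P) : H.sn g + H.sn g ^ q = N q (H.fs g) := (H.toEquiv g).2

theorem fs_mul (g h : P) : H.fs (g * h) = H.fs g + H.fs h := H.fst_mul g h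

theorem sn_mul (g h : P) : H.sn (g * h) = H.sn g + H.sn h + H.fs h * H.fs g ^ q := H.snd_mul g h

theorem ext {g h : P} (h1 : H.fs g = H.fs h) (h2 : H.sn g = H.sn h) : g = h :=
  H.toEquiv.injective (Subtype.ext (Prod.ext h1 h2))

theorem exists_mk {a c : F} (h : Cnd q (a, c)) : ∃ g, H.fs g = a ∧ H.sn g = c := by
  obtain ⟨g, hg⟩ := H.toEquiv.surjective ⟨(a, c), h⟩
  exact ⟨g, by simp [fs, hg], by simp [sn, hg]⟩

theorem fs_one : H.fs 1 = 0 := by
  have h := H.fs_mul 1 1
  rw [one_mul] at h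
  linear_combination -h

variable [Fintype F] [CharP F 2] (hF : Fintype.card F = q ^ 2)
include hF H

theorem sn_one : H.sn 1 = 0 := by
  have h := H.sn_mul 1 1
  rw [one_mul, H.fs_one, zero_mul, add_zero] at h
  linear_combination -h

theorem fs_surj (a : F) : ∃ g, H.fs g = a := by
  obtain ⟨c, hc⟩ := AutPSU.exists_trace hF (N_mem hF a)
  obtain ⟨g, hg, -⟩ := H.exists_mk (a := a) (c := c) hc
  exact ⟨g, hg⟩

theorem sn_mem_of_fs {g : P} (hg : H.fs g = 0) : H.sn g ∈ Fx hF := by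
  have h := H.cnd g
  rw [hg, N, zero_mul] at h
  exact ((mem_Fx hF).2 (eq_of_add_eq_zero h).symm)

theorem fs_sq (g : P) : H.fs (g * g) = 0 := by rw [H.fs_mul, CharTwo.add_self_eq_zero]

theorem sn_sq (g : P) : H.sn (g * g) = N q (H.fs g) := by
  rw [H.sn_mul, CharTwo.add_self_eq_zero, zero_add]

theorem sq_eq_one {g : P} : g * g = 1 ↔ H.fs g = 0 := by
  constructor
  · intro h
    have := H.sn_sq hF g
    rw [h, H.sn_one hF] at this
    rcases mul_eq_zero.1 this.symm with e | e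
    · exact e
    · exact eq_zero_of_pow_eq_zero e
  · intro h
    refine H.ext (by rw [H.fs_sq hF, H.fs_one]) ?_
    rw [H.sn_sq hF, h, H.sn_one hF, N, zero_mul]

theorem isPGroup : IsPGroup 2 P := fun g => ⟨2, by
  show g ^ (2 * 2) = 1
  rw [pow_mul, sq, sq, (H.sq_eq_one hF).2 (H.fs_sq hF g)]⟩

theorem mem_center {g : P} : g ∈ Subgroup.center P ↔ H.fs g = 0 := by
  rw [Subgroup.mem_center_iff]
  constructor
  · intro h
    have key : ∀ b : F, b * H.fs g ^ q = H.fs g * b ^ q := fun b => by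
      obtain ⟨k, hk⟩ := H.fs_surj hF b
      have h' := congrArg H.sn (h k)
      rw [H.sn_mul, H.sn_mul, hk] at h'
      linear_combination -h'
    have h1 : H.fs g ^ q = H.fs g := by simpa using key 1
    obtain ⟨θ, hθ⟩ : ∃ θ : F, θ ^ q ≠ θ := Cfsg.Agent.Lib.UnitaryConj.exists_moved hF
    have h2 := key θ
    rw [h1] at h2
    have h3 : H.fs g * (θ + θ ^ q) = 0 := by
      linear_combination h2 + (CharTwo.two_eq_zero (R := F)) * (H.fs g * θ ^ q)
    exact (mul_eq_zero.1 h3).resolve_right fun e => hθ (eq_of_add_eq_zero e).symm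
  · intro h k
    refine H.ext (by rw [H.fs_mul, H.fs_mul, add_comm]) ?_
    rw [H.sn_mul, H.sn_mul, h, zero_mul, Herm.conj_zero hF, mul_zero]
    ring

theorem finite : Finite P := Finite.of_equiv _ H.toEquiv.symm

/-- The centre is the fixed field. -/
noncomputable def centerEquiv : Subgroup.center P ≃ Fx hF where
  toFun g := ⟨H.sn g, H.sn_mem_of_fs hF ((H.mem_center hF).1 g.2)⟩
  invFun c := ⟨H.toEquiv.symm ⟨(0, c), show (c : F) + (c : F) ^ q = N q 0 by
      rw [show (c : F) ^ q = c from c.2, CharTwo.add_self_eq_zero, N, zero_mul]⟩,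
    (H.mem_center hF).2 (by simp [fs])⟩
  left_inv g := Subtype.ext (H.ext (by simp [fs, (H.mem_center hF).1 g.2 |> (fun h => (show
    (H.toEquiv (g : P)).1.1 = 0 from h))]) (by simp [sn]))
  right_inv c := Subtype.ext (by simp [sn])

theorem card_center : Nat.card (Subgroup.center P) = q := by
  rw [Nat.card_congr (H.centerEquiv hF), card_Fx]

/-- The quotient map to `F`. -/
def fsHom : P →* Multiplicative F where
  toFun g := Multiplicative.ofAdd (H.fs g)
  map_one' := by rw [H.fs_one]; rfl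
  map_mul' g h := by rw [H.fs_mul]; rfl

theorem ker_fsHom : H.fsHom.ker = Subgroup.center P := by
  ext g
  rw [MonoidHom.mem_ker, H.mem_center hF]
  rfl

theorem index_center : (Subgroup.center P).index = q ^ 2 := by
  rw [← H.ker_fsHom hF, Subgroup.index_ker,
    MonoidHom.range_eq_top.2 fun a => ⟨_, congrArg Multiplicative.ofAdd
      (Classical.choose_spec (H.fs_surj hF a.toAdd))⟩, Subgroup.card_top,
    Nat.card_congr Multiplicative.toAdd, Nat.card_eq_fintype_card, hF]

theorem card_eq : Nat.card P = q ^ 3 := by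
  rw [← (Subgroup.center P).card_mul_index, H.card_center hF, H.index_center hF, pow_succ' q 2]

theorem center_eq_commutator : Subgroup.center P = commutator P := by
  refine le_antisymm (fun g hg => ?_) ?_
  · have h0 := (H.mem_center hF).1 hg
    obtain ⟨a, ha⟩ := AutPSU.exists_trace hF (H.sn_mem_of_fs hF h0)
    obtain ⟨x, hx⟩ := H.fs_surj hF a
    obtain ⟨y, hy⟩ := H.fs_surj hF 1
    have e : g * (y * x) = x * y := by
      refine H.ext (by simp only [H.fs_mul, h0]; ring) ?_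
      simp only [H.sn_mul, H.fs_mul, h0, Herm.conj_zero hF, mul_zero, hx, hy, one_pow, mul_one,
        add_zero, one_mul]
      linear_combination -ha + (CharTwo.two_eq_zero (R := F)) * a
    rw [show g = ⁅x, y⁆ by rw [commutatorElement_def, ← e]; group]
    exact Subgroup.commutator_mem_commutator (Subgroup.mem_top _) (Subgroup.mem_top _)
  · rw [← H.ker_fsHom hF]
    exact Abelianization.commutator_subset_ker _

theorem center_eq_closure : Subgroup.center P = Subgroup.closure {x : P | orderOf x = 2} := by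
  haveI : Fact (Nat.Prime 2) := ⟨Nat.prime_two⟩
  refine le_antisymm (fun g hg => ?_) ((Subgroup.closure_le _).2 fun g hg => ?_)
  · rcases eq_or_ne g 1 with rfl | h1
    · exact one_mem _
    · refine Subgroup.subset_closure (orderOf_eq_prime ?_ h1)
      rw [sq]; exact (H.sq_eq_one hF).2 ((H.mem_center hF).1 hg)
  · refine (H.mem_center hF).2 ((H.sq_eq_one hF).1 ?_)
    have hg' : orderOf g = 2 := hg
    rw [← sq, ← hg', pow_orderOf_eq_one]

theorem quot_sq (x : P ⧸ Subgroup.center P) : x ^ 2 = 1 := by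
  induction x using QuotientGroup.induction_on with
  | _ g =>
    rw [← QuotientGroup.mk_pow, QuotientGroup.eq_one_iff, H.mem_center hF, sq]
    exact H.fs_sq hF g

omit [CharP F 2] H in
theorem cnd_scale {l : F} (hl : l ^ q = l) {p : F × F} (hp : Cnd q p) :
    Cnd q (l * p.1, l * l * p.2) := by
  show l * l * p.2 + (l * l * p.2) ^ q = l * p.1 * (l * p.1) ^ q
  rw [mul_pow, mul_pow, mul_pow, hl]
  have hp' : p.2 + p.2 ^ q = p.1 * p.1 ^ q := hp
  linear_combination l * l * hp'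

/-- Scaling by a unit of the fixed field. -/
noncomputable def scale (l : F) (hl : l ^ q = l) (hl0 : l ≠ 0) : MulAut P where
  toFun g := H.toEquiv.symm ⟨_, cnd_scale hF hl (H.toEquiv g).2⟩
  invFun g := H.toEquiv.symm ⟨_, cnd_scale hF (l := l⁻¹) (by rw [inv_pow, hl]) (H.toEquiv g).2⟩
  left_inv g := H.toEquiv.injective <| Subtype.ext <| Prod.ext
    (by simp [inv_mul_cancel_left₀ hl0]) (by simp; field_simp)
  right_inv g := H.toEquiv.injective <| Subtype.ext <| Prod.ext
    (by simp [mul_inv_cancel_left₀ hl0]) (by simp; field_simp)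
  map_mul' g h := H.toEquiv.injective <| Subtype.ext <| Prod.ext
    (by simp only [Equiv.apply_symm_apply, H.fst_mul]; ring)
    (by simp only [Equiv.apply_symm_apply, H.snd_mul, H.fst_mul, mul_pow, hl]; ring)

theorem isSuzuki (hq : 4 ≤ q) : Cfsg.IsSuzukiTwoGroup P := by
  classical
  haveI := H.finite hF
  refine ⟨H.finite hF, H.isPGroup hF, ?_, ?_, ?_⟩
  · by_contra hc
    push Not at hc
    have h : Subgroup.center P = ⊤ :=
      eq_top_iff.2 fun g _ => Subgroup.mem_center_iff.2 fun k => hc k g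
    have := H.index_center hF
    rw [h, Subgroup.index_top] at this
    nlinarith
  · have h3 : 1 < Nat.card (Subgroup.center P) - 1 := by rw [H.card_center hF]; omega
    have : Fintype (Subgroup.center P) := Fintype.ofFinite _
    have hc : 1 < Fintype.card {g : Subgroup.center P // g ≠ 1} := by
      rw [Fintype.card_subtype_compl, Fintype.card_subtype_eq, ← Nat.card_eq_fintype_card]
      exact h3
    obtain ⟨⟨x, hx⟩, ⟨y, hy⟩, hne⟩ := Fintype.one_lt_card_iff.1 hc
    exact ⟨x, y, fun h => hne (Subtype.ext (Subtype.ext h)), fun h => hx (Subtype.ext h),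
      (H.sq_eq_one hF).2 ((H.mem_center hF).1 x.2), fun h => hy (Subtype.ext h),
      (H.sq_eq_one hF).2 ((H.mem_center hF).1 y.2)⟩
  · let Lu : Subgroup Fˣ :=
      { carrier := {l | (l : F) ^ q = l}
        one_mem' := one_pow q
        mul_mem' := fun {a b} ha hb => by
          show ((a * b : Fˣ) : F) ^ q = ((a * b : Fˣ) : F)
          rw [Units.val_mul, mul_pow, show (a : F) ^ q = a from ha, show (b : F) ^ q = b from hb]
        inv_mem' := fun {a} ha => by
          show ((a⁻¹ : Fˣ) : F) ^ q = ((a⁻¹ : Fˣ) : F)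
          rw [Units.val_inv_eq_inv_val, inv_pow, show (a : F) ^ q = a from ha] }
    let φ : Lu →* MulAut P :=
      { toFun := fun l => H.scale hF (l : Fˣ) l.2 (Units.ne_zero _)
        map_one' := MulEquiv.ext fun g => H.toEquiv.injective <| Subtype.ext <| by
          simp [scale]
        map_mul' := fun a b => MulEquiv.ext fun g => H.toEquiv.injective <| Subtype.ext <| by
          simp [scale, mul_assoc, mul_left_comm] }
    have hval : ∀ (l : Lu) g, H.fs (φ l g) = (l : Fˣ) * H.fs g ∧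
        H.sn (φ l g) = ((l : Fˣ) : F) * (l : Fˣ) * H.sn g := fun l g => by
      simp [φ, fs, sn, scale]
    refine ⟨φ.range, isCyclic_of_surjective φ.rangeRestrict φ.rangeRestrict_surjective,
      fun x y hx hxx hy hyy => ?_⟩
    have hx0 := (H.sq_eq_one hF).1 hxx
    have hy0 := (H.sq_eq_one hF).1 hyy
    have hxs : H.sn x ≠ 0 := fun e => hx (H.ext (by rw [hx0, H.fs_one]) (by rw [e, H.sn_one hF]))
    have hys : H.sn y ≠ 0 := fun e => hy (H.ext (by rw [hy0, H.fs_one]) (by rw [e, H.sn_one hF]))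
    obtain ⟨r, hr, hrr⟩ := fixed_sq_surj hF (c := H.sn y / H.sn x) (by
      rw [mem_Fx, div_pow, (mem_Fx hF).1 (H.sn_mem_of_fs hF hx0),
        (mem_Fx hF).1 (H.sn_mem_of_fs hF hy0)])
    have hr0 : r ≠ 0 := by
      rintro rfl
      rw [zero_mul] at hrr
      exact div_ne_zero hys hxs hrr.symm
    have hrx : φ ⟨Units.mk0 r hr0, hr⟩ x = y := by
      refine H.ext (by rw [(hval _ _).1, hx0, mul_zero, hy0]) ?_
      rw [(hval _ _).2]
      show r * r * H.sn x = H.sn y
      rw [hrr, div_mul_cancel₀ _ hxs]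
    refine ⟨⟨_, _, rfl⟩, hrx, ?_⟩
    rintro ⟨_, l, rfl⟩ hk
    refine Subtype.ext ?_
    show φ l = φ ⟨Units.mk0 r hr0, hr⟩
    congr 1
    refine Subtype.ext (Units.ext ?_)
    have h := congrArg H.sn hk
    rw [show H.sn (φ l x) = _ from (hval l x).2] at h
    have h2 : ((l : Fˣ) : F) * (l : Fˣ) = r * r := by
      rw [hrr, eq_div_iff hxs]; exact h
    exact frobenius_inj F 2 (by simp only [frobenius_def, sq]; exact h2)

theorem center_le_of_index_two {R : Type w} [Group R] (S : Subgroup R) (e : S ≃* P)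
    (hidx : S.index = 2) : (Subgroup.center S).map S.subtype ≤ Subgroup.center R := by
  classical
  haveI : S.Normal := Subgroup.normal_of_index_eq_two hidx
  rintro _ ⟨z, hz, rfl⟩
  rw [Subgroup.mem_center_iff]
  intro r
  by_cases hr : r ∈ S
  · exact congrArg Subtype.val (Subgroup.mem_center_iff.1 hz ⟨r, hr⟩)
  · let φ : MulAut P := e.symm.trans ((MulAut.conjNormal r).trans e)
    have hφ : ∀ g, φ g = e (MulAut.conjNormal r (e.symm g)) := fun _ => rfl
    have hfs : ∀ {g : P}, H.fs g = 0 → H.fs (φ g) = 0 := fun {g} hg => by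
      rw [← H.mem_center hF] at hg ⊢
      rw [Subgroup.mem_center_iff] at hg ⊢
      intro k
      obtain ⟨k, rfl⟩ := φ.surjective k
      rw [← map_mul, ← map_mul, hg k]
    choose sec hsec using H.fs_surj hF
    have hwd : ∀ g, H.fs (φ g) = H.fs (φ (sec (H.fs g))) := fun g => by
      have h0 : H.fs (g * sec (H.fs g)) = 0 := by
        rw [H.fs_mul, hsec, CharTwo.add_self_eq_zero]
      have := hfs h0
      rw [map_mul, H.fs_mul] at this
      exact eq_of_add_eq_zero this
    let A : F →+ F :=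
      { toFun := fun a => H.fs (φ (sec a))
        map_zero' := hfs (hsec 0)
        map_add' := fun a b => by
          rw [← H.fs_mul, ← map_mul, hwd (sec a * sec b), H.fs_mul, hsec, hsec] }
    have hA : ∀ g, H.fs (φ g) = A (H.fs g) := hwd
    have hr2 : r * r ∈ S := S.mul_self_mem_of_index_two hidx r
    have hAA : ∀ a, A (A a) = a := fun a => by
      have h : φ (φ (sec a)) = e ⟨r * r, hr2⟩ * sec a * (e ⟨r * r, hr2⟩)⁻¹ := by
        have key : ∀ k : S, e (MulAut.conjNormal r (MulAut.conjNormal r k)) =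
            e ⟨r * r, hr2⟩ * e k * (e ⟨r * r, hr2⟩)⁻¹ := fun k => by
          rw [← map_inv, ← map_mul, ← map_mul]
          congr 1
          ext
          simp [MulAut.conjNormal_apply, mul_assoc]
        rw [hφ, hφ, e.symm_apply_apply, key, e.apply_symm_apply]
      have h' := congrArg H.fs h
      rw [hA, hA, hsec, H.fs_mul, H.fs_mul, hsec] at h'
      have h1 : H.fs (e ⟨r * r, hr2⟩)⁻¹ = H.fs (e ⟨r * r, hr2⟩) := by
        have := H.fs_mul (e ⟨r * r, hr2⟩) (e ⟨r * r, hr2⟩)⁻¹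
        rw [mul_inv_cancel, H.fs_one] at this
        exact (eq_of_add_eq_zero this.symm).symm
      rw [h'] ; rw [h1]
      linear_combination (CharTwo.two_eq_zero (R := F)) * H.fs (e ⟨r * r, hr2⟩)
    have hzc : ∀ c, ∃ g, c ∈ Fx hF → H.fs g = 0 ∧ H.sn g = c := fun c => by
      by_cases hc : c ∈ Fx hF
      · obtain ⟨g, hg⟩ := H.exists_mk (a := 0) (c := c) (show c + c ^ q = N q 0 by
          rw [(mem_Fx hF).1 hc, CharTwo.add_self_eq_zero, N, zero_mul])
        exact ⟨g, fun _ => hg⟩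
      · exact ⟨1, fun h => absurd h hc⟩
    choose zc hzc using hzc
    have hBN : ∀ a, H.sn (φ (zc (N q a))) = N q (A a) := fun a => by
      have h1 : zc (N q a) = sec a * sec a := H.ext
        (by rw [(hzc _ (N_mem hF a)).1, H.fs_sq hF])
        (by rw [(hzc _ (N_mem hF a)).2, H.sn_sq hF, hsec])
      rw [h1, map_mul, H.sn_sq hF, hA, hsec]
    have hBadd : ∀ c ∈ Fx hF, ∀ d ∈ Fx hF,
        H.sn (φ (zc (c + d))) = H.sn (φ (zc c)) + H.sn (φ (zc d)) := fun c hc d hd => by
      have h1 : zc (c + d) = zc c * zc d := H.ext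
        (by rw [(hzc _ ((Fx hF).add_mem hc hd)).1, H.fs_mul, (hzc _ hc).1, (hzc _ hd).1, add_zero])
        (by rw [(hzc _ ((Fx hF).add_mem hc hd)).2, H.sn_mul, (hzc _ hc).2, (hzc _ hd).2,
          (hzc _ hd).1, zero_mul, add_zero])
      rw [h1, map_mul, H.sn_mul, hfs (hzc _ hd).1, zero_mul, add_zero]
    have hid := norm_preserved hF A hAA (fun c => H.sn (φ (zc c))) hBadd hBN
    have hz' : H.fs (e z) = 0 := (H.mem_center hF).1 <| by
      rw [Subgroup.mem_center_iff]
      intro k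
      obtain ⟨k, rfl⟩ := e.surjective k
      rw [← map_mul, ← map_mul, Subgroup.mem_center_iff.1 hz k]
    have hfix : φ (e z) = e z := by
      refine H.ext (by rw [hfs hz', hz']) ?_
      have hmem := H.sn_mem_of_fs hF hz'
      obtain ⟨a, ha⟩ := N_surj hF hmem
      have h1 : e z = zc (N q a) :=
        H.ext (by rw [hz', (hzc _ (N_mem hF a)).1]) (by rw [(hzc _ (N_mem hF a)).2, ha])
      rw [h1, hBN, hid, (hzc _ (N_mem hF a)).2]
    rw [hφ, e.symm_apply_apply] at hfix
    have h := congrArg Subtype.val (e.injective hfix)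
    rw [MulAut.conjNormal_apply] at h
    exact mul_inv_eq_iff_eq_mul.1 h

end Shape

variable [Fintype F] {q : ℕ} (hF : Fintype.card F = q ^ 2) [CharP F 2]
include hF

theorem shape_QG {e f : Fin 3 → F} (HP : Pair q e f) {y : Fin 3 → F} (hy : InW q e f y)
    (hy1 : AutPSU.hm q y y = 1) : Nonempty (Shape F q (AutPSU.QG hF HP)) := by
  classical
  have hy0 : y ≠ 0 := by
    rintro rfl
    rw [AutPSU.hm_zero_left] at hy1
    exact zero_ne_one hy1
  have hmy : ∀ a b : F, AutPSU.hm q (a • y) (b • y) = a * b ^ q := fun a b => by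
    rw [AutPSU.hm_smul_left', AutPSU.hm_smul_right, hy1, mul_one]
  have hc : ∀ p : {p : F × F // Cnd q p}, Cond q (p.1.1 • y) p.1.2 := fun p => by
    unfold Cond
    rw [hmy, CharTwo.neg_eq]
    exact p.2
  let g : {p : F × F // Cnd q p} → AutPSU.QG hF HP := fun p =>
    ⟨AutPSU.pr (AutPSU.U hF e (p.1.1 • y) p.1.2), AutPSU.U_mem_QG hF HP (hy.smul _) (hc p)⟩
  have hg : Function.Bijective g := by
    constructor
    · intro p r h
      obtain ⟨h1, h2⟩ := AutPSU.prU_inj hF HP (by norm_num) (hy.smul _) (hy.smul _) (hc p) (hc r)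
        (congrArg Subtype.val h)
      exact Subtype.ext (Prod.ext (smul_left_injective F hy0 h1) h2)
    · rintro ⟨_, x, c, hx, hxc, rfl⟩
      obtain ⟨a, rfl⟩ := AutPSU.W_line hF HP rfl hy hy0 hx
      refine ⟨⟨(a, c), ?_⟩, rfl⟩
      unfold Cond at hxc
      rw [hmy, CharTwo.neg_eq] at hxc
      exact hxc
  have hmul : ∀ p r, ∃ hh, g p * g r =
      g ⟨(p.1.1 + r.1.1, p.1.2 + r.1.2 + r.1.1 * p.1.1 ^ q), hh⟩ := fun p r => by
    have h := (hc p).mul hF (hc r)
    rw [hmy, CharTwo.sub_eq_add, ← add_smul] at h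
    unfold Cond at h
    rw [hmy, CharTwo.neg_eq] at h
    refine ⟨h, Subtype.ext ?_⟩
    show AutPSU.pr _ * AutPSU.pr _ = _
    rw [← map_mul, AutPSU.U_mul hF HP (hy.smul _) (hy.smul _) (hc p) (hc r), hmy,
      CharTwo.sub_eq_add, ← add_smul]
  refine ⟨{ toEquiv := (Equiv.ofBijective g hg).symm, fst_mul := ?_, snd_mul := ?_ }⟩
  all_goals
    intro a b
    obtain ⟨p, rfl⟩ := hg.2 a
    obtain ⟨r, rfl⟩ := hg.2 b
    obtain ⟨hh, hpr⟩ := hmul p r
    rw [hpr]
    simp only [Equiv.ofBijective_symm_apply_apply]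

theorem exists_shape : ∃ Q : Subgroup (Cfsg.PSU 3 F q), Nonempty (Shape F q Q) := by
  obtain ⟨e, f, HP⟩ := AutPSU.exists_pair hF (n := 3) (by norm_num)
  obtain ⟨y, hy, hy1⟩ := AutPSU.exists_W_unit hF HP le_rfl
  exact ⟨_, shape_QG hF HP hy hy1⟩

omit [CharP F 2] in
theorem card_PSU_three : ∃ m, Nat.card (Cfsg.PSU 3 F q) = q ^ 3 * m ∧ (Even q → Odd m) := by
  have hq := Herm.two_le_q hF
  have hd : Nat.gcd 3 (q + 1) ∣ 3 := Nat.gcd_dvd_left _ _
  have h := Herm.card_PSU hF (n := 3) (by norm_num)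
  rw [Herm.card_GU hF 3] at h
  simp only [Finset.prod_range_succ, Finset.prod_range_zero, one_mul] at h
  norm_num at h
  obtain ⟨b, hb⟩ : (q + 1) ∣ (q ^ 2 - 1) := ⟨q - 1, by
    rw [← Nat.sq_sub_sq q 1]⟩
  have h' : (q + 1) * (Nat.gcd 3 (q + 1) * Nat.card (Cfsg.PSU 3 F q)) =
      (q + 1) * (q ^ 3 * ((q ^ 2 - 1) * (q ^ 3 + 1))) := by
    rw [show (q + 1) * (Nat.gcd 3 (q + 1) * Nat.card (Cfsg.PSU 3 F q)) =
      Nat.gcd 3 (q + 1) * ((q + 1) * Nat.card (Cfsg.PSU 3 F q)) by ring, h]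
    ring
  have h2 := Nat.eq_of_mul_eq_mul_left (by omega) h'
  have hcop : Nat.Coprime (Nat.gcd 3 (q + 1)) (q ^ 3) := by
    refine Nat.Coprime.coprime_dvd_left (Nat.gcd_dvd_right 3 (q + 1)) ?_
    exact Nat.Coprime.pow_right 3 (by rw [add_comm]; simp)
  obtain ⟨m, hm⟩ : Nat.gcd 3 (q + 1) ∣ (q ^ 2 - 1) * (q ^ 3 + 1) :=
    hcop.dvd_of_dvd_mul_left ⟨_, h2.symm⟩
  refine ⟨m, Nat.eq_of_mul_eq_mul_left (Nat.gcd_pos_of_pos_left _ (by norm_num))
    (h2.trans (by rw [hm]; ring)), fun hev => ?_⟩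
  have ho : Odd ((q ^ 2 - 1) * (q ^ 3 + 1)) := by
    refine Odd.mul (Nat.Even.sub_odd ?_ (hev.pow_of_ne_zero two_ne_zero) odd_one) ?_
    · nlinarith
    · exact (hev.pow_of_ne_zero (by norm_num)).add_one
  rw [hm] at ho
  exact (Nat.odd_mul.1 ho).2

theorem exists_shape_sylow (hev : Even q) (S : Sylow 2 (Cfsg.PSU 3 F q)) :
    Nonempty (Shape F q S) := by
  haveI : Fact (Nat.Prime 2) := ⟨Nat.prime_two⟩
  obtain ⟨Q, ⟨H⟩⟩ := exists_shape hF
  obtain ⟨m, hm, hodd⟩ := card_PSU_three hF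
  have hQ : IsPGroup 2 Q := H.isPGroup hF
  obtain ⟨S', hS'⟩ := hQ.exists_le_sylow
  have hcQ : Nat.card Q = q ^ 3 := H.card_eq hF
  have hqpow : ∃ k, q ^ 3 = 2 ^ k := hcQ ▸ hQ.exists_card_eq
  obtain ⟨k, hk⟩ := S'.2.exists_card_eq
  have hdvd : Nat.card S' ∣ q ^ 3 := by
    refine (Nat.Coprime.dvd_of_dvd_mul_right ?_ (hm ▸ Subgroup.card_subgroup_dvd_card _))
    rw [hk]
    exact (Nat.coprime_two_left.2 (hodd hev)).pow_left _
  have heq : Q = (S' : Subgroup (Cfsg.PSU 3 F q)) :=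
    Subgroup.eq_of_le_of_card_ge hS' (hcQ ▸ Nat.le_of_dvd (by
      have := Herm.two_le_q hF; positivity) hdvd)
  exact ⟨H.comap ((S.equiv S').trans (MulEquiv.subgroupCongr heq.symm))⟩

theorem exists_shape_sylow_SU (hev : Even q) (P : Sylow 2 ↥(Cfsg.SU 3 F q)) :
    Nonempty (Shape F q P) := by
  haveI : Fact (Nat.Prime 2) := ⟨Nat.prime_two⟩
  let π := QuotientGroup.mk' (Subgroup.center ↥(Cfsg.SU 3 F q))
  let φ : P →* Cfsg.PSU 3 F q := π.comp (P : Subgroup ↥(Cfsg.SU 3 F q)).subtype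
  have hinj : Function.Injective φ := by
    rw [← MonoidHom.ker_eq_bot_iff, Subgroup.eq_bot_iff_forall]
    intro x hx
    have hxc : (x : ↥(Cfsg.SU 3 F q)) ∈ Subgroup.center ↥(Cfsg.SU 3 F q) :=
      (QuotientGroup.eq_one_iff _).1 (MonoidHom.mem_ker.1 hx)
    obtain ⟨k, hk⟩ := P.2 x
    have h2 : orderOf (x : ↥(Cfsg.SU 3 F q)) ∣ 2 ^ k := orderOf_dvd_of_pow_eq_one (by
      rw [← SubmonoidClass.coe_pow, hk]; rfl)
    have h3 : orderOf (x : ↥(Cfsg.SU 3 F q)) ∣ Nat.gcd 3 (q + 1) := by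
      rw [← Herm.card_center_SU hF (n := 3) (by norm_num)]
      exact Subgroup.orderOf_dvd_natCard _ hxc
    have h4 : orderOf (x : ↥(Cfsg.SU 3 F q)) ∣ 1 := by
      have hco : Nat.Coprime (2 ^ k) 3 := Nat.Coprime.pow_left _ (by norm_num)
      rw [← hco]
      exact Nat.dvd_gcd h2 (h3.trans (Nat.gcd_dvd_left _ _))
    exact Subtype.ext (orderOf_eq_one_iff.1 (Nat.dvd_one.1 h4))
  let Sy : Sylow 2 (Cfsg.PSU 3 F q) := P.mapSurjective (f := π) (QuotientGroup.mk'_surjective _)
  have hr : φ.range = (Sy : Subgroup (Cfsg.PSU 3 F q)) := by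
    rw [MonoidHom.range_comp, Subgroup.range_subtype]
    rfl
  obtain ⟨H⟩ := exists_shape_sylow hF hev Sy
  exact ⟨H.comap ((φ.ofInjective hinj).trans (MulEquiv.subgroupCongr hr))⟩

omit hF [CharP F 2] in
theorem charTwo {n : ℕ} (h : Fintype.card F = (2 ^ n) ^ 2) : CharP F 2 := by
  obtain ⟨p, hp⟩ := CharP.exists F
  obtain ⟨d, hpp, hd⟩ := FiniteField.card F p
  have : p ∣ 2 := hpp.dvd_of_dvd_pow (n := n * 2) (by
    rw [pow_mul, ← h, hd]; exact dvd_pow_self p d.ne_zero)
  rwa [(Nat.prime_dvd_prime_iff_eq hpp Nat.prime_two).1 this] at hp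

end Cfsg.Agent.Lib.U3Sylow
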