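import Cfsg.Agent.Lib.U3Sylow.Field

/-!
The additive maps of the field of `q^2` elements which are compatible with the norm are semilinear.
-/

set_option autoImplicit false

namespace Cfsg.Agent.Lib.U3Sylow

open Cfsg.Agent.Lib.Classical

universe u

variable {F : Type u} [Field F] [Fintype F] [CharP F 2] {q : ℕ} (hF : Fintype.card F = q ^ 2)
include hF

/-- A multiplicative additive map of the fixed field is a Frobenius power. -/
theorem exists_frobenius (s : F → F) (hmem : ∀ c ∈ Fx hF, s c ∈ Fx hF) (h1 : s 1 = 1)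
    (hadd : ∀ a ∈ Fx hF, ∀ b ∈ Fx hF, s (a + b) = s a + s b)
    (hmul : ∀ a ∈ Fx hF, ∀ b ∈ Fx hF, s (a * b) = s a * s b) :
    ∃ i : ℕ, ∀ c ∈ Fx hF, s c = c ^ 2 ^ i := by
  classical
  let L : Subfield F :=
    { carrier := {x | x ^ q = x}
      zero_mem' := Herm.conj_zero hF
      one_mem' := one_pow q
      add_mem' := fun {a b} ha hb => (Fx hF).add_mem (show a ∈ Fx hF from ha) hb
      neg_mem' := fun {a} ha => (Fx hF).neg_mem (show a ∈ Fx hF from ha)
      inv_mem' := fun x hx => by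
        show (x⁻¹) ^ q = x⁻¹
        rw [inv_pow, show x ^ q = x from hx]
      mul_mem' := fun {a b} ha hb => by
        show (a * b) ^ q = a * b
        rw [mul_pow, show a ^ q = a from ha, show b ^ q = b from hb] }
  haveI : CharP L 2 := (RingHom.charP_iff_charP L.subtype 2).2 inferInstance
  letI : Algebra (ZMod 2) L := ZMod.algebra L 2
  haveI : Fact (Nat.Prime 2) := ⟨Nat.prime_two⟩
  let σ : L →+* L :=
    { toFun := fun x => ⟨s x, hmem x x.2⟩
      map_one' := Subtype.ext h1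
      map_mul' := fun a b => Subtype.ext (hmul a a.2 b b.2)
      map_zero' := Subtype.ext (by
        have h := hadd 0 (Fx hF).zero_mem 0 (Fx hF).zero_mem
        rw [add_zero] at h
        show s (0 : F) = 0
        linear_combination -h)
      map_add' := fun a b => Subtype.ext (hadd a a.2 b b.2) }
  let σ' : L →ₐ[ZMod 2] L :=
    { σ with
      commutes' := fun r => by
        exact RingHom.congr_fun
          (RingHom.ext_zmod (σ.comp (algebraMap (ZMod 2) L)) (algebraMap (ZMod 2) L)) r }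
  obtain ⟨i, hi⟩ := (FiniteField.bijective_frobeniusAlgHom_pow (ZMod 2) L).2 σ'
  refine ⟨i, fun c hc => ?_⟩
  have h := congrArg (fun f : L →ₐ[ZMod 2] L => (f ⟨c, hc⟩ : F)) hi
  simp only [AlgHom.coe_pow, FiniteField.coe_frobeniusAlgHom, pow_iterate, ZMod.card,
    SubmonoidClass.coe_pow] at h
  exact h.symm

theorem B_one (x : F) : B q x 1 = x + x ^ q := by simp [B]

/-- An additive map fixing the norm and the fixed field is the identity or the conjugation. -/
theorem id_or_conj (A : F →+ F) (h1 : A 1 = 1) (hN : ∀ x, N q (A x) = N q x) :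
    (∀ x, A x = x) ∨ ∀ x, A x = x ^ q := by
  have hx : ∀ x, A x = x ∨ A x = x ^ q := fun x => by
    have h := hN (x + 1)
    rw [map_add, h1, N_add hF, N_add hF, hN, B_one hF, B_one hF] at h
    have hT : A x + A x ^ q = x + x ^ q := add_left_cancel h
    have h0 : (A x - x) * (A x - x ^ q) = 0 := by
      have hn := hN x
      simp only [N] at hn
      linear_combination (A x) * hT - hn
    rcases mul_eq_zero.1 h0 with e | e
    · exact Or.inl (sub_eq_zero.1 e)
    · exact Or.inr (sub_eq_zero.1 e)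
  by_contra hne
  push Not at hne
  obtain ⟨⟨a, ha⟩, b, hb⟩ := hne
  have ha' := (hx a).resolve_left ha
  have hb' := (hx b).resolve_right hb
  have hab := hx (a + b)
  rw [map_add, Herm.conj_add hF, ha', hb'] at hab
  rcases hab with e | e
  · exact ha (ha'.trans (add_right_cancel e))
  · exact hb (hb'.trans (add_left_cancel e))

omit hF in
theorem pow_card_iterate {N₀ : ℕ} (hN₀ : Fintype.card F = 2 ^ N₀) (x : F) (k : ℕ) :
    x ^ 2 ^ k = x ^ 2 ^ (k % N₀) := by
  conv_lhs => rw [← Nat.mod_add_div k N₀, pow_add, pow_mul (2 : ℕ), ← hN₀, pow_mul]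
  rw [FiniteField.pow_card_pow]

/-- An additive injective map compatible with the norm is semilinear. -/
theorem exists_semilinear {n : ℕ} (hq : q = 2 ^ n) (hn : 1 ≤ n) (A : F →+ F)
    (hA : Function.Injective A) (Bm : F → F)
    (hBadd : ∀ c ∈ Fx hF, ∀ d ∈ Fx hF, Bm (c + d) = Bm c + Bm d)
    (hBN : ∀ x, Bm (N q x) = N q (A x)) :
    ∃ l : F, l ≠ 0 ∧ ∃ i < 2 * n, ∀ x, A x = l * x ^ 2 ^ i := by
  have hN₀ : Fintype.card F = 2 ^ (2 * n) := by rw [hF, hq, ← pow_mul, mul_comm n 2]
  set l := A 1 with hl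
  have hl0 : l ≠ 0 := fun h => one_ne_zero (hA (h.trans (map_zero A).symm))
  have hNl : N q l ≠ 0 := mul_ne_zero hl0 (pow_ne_zero _ hl0)
  let A' : F →+ F := (AddMonoidHom.mulLeft l⁻¹).comp A
  have hA'1 : A' 1 = 1 := inv_mul_cancel₀ hl0
  let s : F → F := fun c => (N q l)⁻¹ * Bm c
  have hsN : ∀ x, s (N q x) = N q (A' x) := fun x => by
    show (N q l)⁻¹ * Bm (N q x) = N q (l⁻¹ * A x)
    rw [hBN]
    simp only [N, mul_pow, inv_pow, mul_inv]
    ring
  have hsadd : ∀ a ∈ Fx hF, ∀ b ∈ Fx hF, s (a + b) = s a + s b := fun a ha b hb => by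
    show (N q l)⁻¹ * Bm (a + b) = _
    rw [hBadd a ha b hb, mul_add]
  have hsB : ∀ a b, s (B q a b) = B q (A' a) (A' b) := fun a b => by
    have e : B q a b = N q (a + b) + (N q a + N q b) := by
      rw [N_add hF]
      linear_combination -(CharTwo.two_eq_zero (R := F)) * (N q a + N q b)
    rw [e, hsadd _ (N_mem hF _) _ ((Fx hF).add_mem (N_mem hF _) (N_mem hF _)),
      hsadd _ (N_mem hF _) _ (N_mem hF _), hsN, hsN, hsN, map_add, N_add hF]
    linear_combination (CharTwo.two_eq_zero (R := F)) * (N q (A' a) + N q (A' b))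
  have hsT : ∀ x, s (x + x ^ q) = A' x + A' x ^ q := fun x => by
    rw [← B_one hF, hsB, hA'1, B_one hF]
  have hA'fix : ∀ a ∈ Fx hF, A' a ∈ Fx hF := fun a ha => by
    have h := hsT a
    rw [(mem_Fx hF).1 ha, CharTwo.add_self_eq_zero] at h
    have h0 : s 0 = 0 := by
      have h' := hsN 0
      rw [map_zero] at h'
      simpa [N] using h'
    rw [h0] at h
    exact (eq_of_add_eq_zero h.symm).symm
  have hfac : ∀ a ∈ Fx hF, ∀ c ∈ Fx hF, s (a * c) = A' a * s c := fun a ha c hc => by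
    obtain ⟨x, rfl⟩ := AutPSU.exists_trace hF hc
    have e : a * (x + x ^ q) = B q a x := by
      rw [B, (mem_Fx hF).1 ha]; ring
    rw [e, hsB, hsT, B, (mem_Fx hF).1 (hA'fix a ha)]
    ring
  have hone : (1 : F) ∈ Fx hF := one_pow q
  have hs1 : s 1 = 1 := by simpa [N, hA'1] using hsN 1
  have hsA : ∀ a ∈ Fx hF, s a = A' a := fun a ha => by
    have := hfac a ha 1 hone
    rwa [mul_one, hs1, mul_one] at this
  obtain ⟨i, hi⟩ := exists_frobenius hF s (fun c hc => hsA c hc ▸ hA'fix c hc) hs1 hsadd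
    (fun a ha b hb => by rw [hfac a ha b hb, hsA a ha])
  have hper : ∀ (x : F) (k : ℕ), x ^ 2 ^ k = x ^ 2 ^ (k % (2 * n)) := pow_card_iterate hN₀
  obtain ⟨j, hj⟩ : ∃ j, (i + j) % (2 * n) = 0 :=
    ⟨2 * n - i % (2 * n), by
      have := Nat.mod_lt i (show 0 < 2 * n by omega)
      have h2 := Nat.div_add_mod i (2 * n)
      rw [show i + (2 * n - i % (2 * n)) = 2 * n * (i / (2 * n) + 1) by rw [mul_add, mul_one]; omega,
        Nat.mul_mod_right]⟩
  have hij : ∀ x : F, (x ^ 2 ^ i) ^ 2 ^ j = x := fun x => by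
    rw [← pow_mul, ← pow_add, hper, hj, pow_zero, pow_one]
  have hji : ∀ x : F, (x ^ 2 ^ j) ^ 2 ^ i = x := fun x => by
    rw [← pow_mul, ← pow_add, add_comm, hper, hj, pow_zero, pow_one]
  let A'' : F →+ F :=
    { toFun := fun x => (A' x) ^ 2 ^ j
      map_zero' := by rw [map_zero]; exact zero_pow (by positivity)
      map_add' := fun a b => by rw [map_add]; exact add_pow_char_pow _ _ 2 j }
  have hA''N : ∀ x, N q (A'' x) = N q x := fun x => by
    have h := hsN x
    rw [hi _ (N_mem hF x)] at h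
    show (A' x) ^ 2 ^ j * ((A' x) ^ 2 ^ j) ^ q = _
    rw [← pow_mul, mul_comm (2 ^ j) q, pow_mul, ← mul_pow]
    show (N q (A' x)) ^ 2 ^ j = _
    rw [← h, hij]
  refine ⟨l, hl0, ?_⟩
  have hback : ∀ k, (∀ x, A'' x = x ^ 2 ^ k) →
      ∃ i' < 2 * n, ∀ x, A x = l * x ^ 2 ^ i' := fun k hk => by
    refine ⟨(k + i) % (2 * n), Nat.mod_lt _ (by omega), fun x => ?_⟩
    rw [← hper, pow_add, pow_mul, ← hk, show (A'' x) = (A' x) ^ 2 ^ j from rfl, hji]
    show A x = l * (l⁻¹ * A x)
    rw [mul_inv_cancel_left₀ hl0]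
  rcases id_or_conj hF A'' (show (A' 1) ^ 2 ^ j = 1 by rw [hA'1, one_pow]) hA''N with h | h
  · exact hback 0 fun x => by rw [h, pow_zero, pow_one]
  · exact hback n fun x => by rw [h, hq]

omit hF in
theorem frobenius_index_unique {n : ℕ} (hN₀ : Fintype.card F = 2 ^ (2 * n)) {i j : ℕ}
    (hi : i < 2 * n) (hj : j < 2 * n) (h : ∀ x : F, x ^ 2 ^ i = x ^ 2 ^ j) : i = j := by
  classical
  obtain ⟨g, hg⟩ := IsCyclic.exists_ofOrder_eq_natCard (α := Fˣ)
  have hcard : orderOf g = 2 ^ (2 * n) - 1 := by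
    rw [hg, Nat.card_eq_fintype_card, Fintype.card_units, hN₀]
  have key : ∀ k, k < 2 * n → 2 ^ k < orderOf g := fun k hk => by
    rw [hcard]
    have h1 : 2 ^ (k + 1) ≤ 2 ^ (2 * n) := Nat.pow_le_pow_right two_pos hk
    rw [pow_succ] at h1
    rcases Nat.eq_zero_or_pos k with rfl | hk0
    · have : 4 ≤ 2 ^ (2 * n) :=
        le_trans (by norm_num) (Nat.pow_le_pow_right two_pos (show 2 ≤ 2 * n by omega))
      simp only [pow_zero]; omega
    · have : 2 ≤ 2 ^ k := le_trans (by norm_num) (Nat.pow_le_pow_right two_pos hk0)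
      omega
  have := pow_injOn_Iio_orderOf (x := g) (key i hi) (key j hj)
    (Units.ext (by simpa using h (g : F)))
  exact Nat.pow_right_injective le_rfl this

end Cfsg.Agent.Lib.U3Sylow
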