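import Cfsg.Agent.Lib.U3Sylow.Basic
import Cfsg.Agent.Lib.U3Sylow.Semilinear
import Cfsg.Agent.Lib.Fusion.Normal
import Cfsg.Prelude.Def_Transfer

/-!
The automorphism group of a Sylow `2`-subgroup of `U_3(2^n)`.
-/

set_option autoImplicit false

namespace Cfsg.Agent.Lib.U3Sylow

open Cfsg.Agent.Lib.Classical

universe u v

namespace Shape

variable {F : Type u} [Field F] {q : ℕ} {P : Type v} [Group P] (H : Shape F q P) [Fintype F]
  [CharP F 2] (hF : Fintype.card F = q ^ 2)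

/-- The automorphisms trivial on the quotient by the centre. -/
def Ker : Subgroup (MulAut P) where
  carrier := {φ | ∀ g, H.fs (φ g) = H.fs g}
  one_mem' _ := rfl
  mul_mem' {a b} ha hb g := by rw [MulAut.mul_apply, ha, hb]
  inv_mem' {a} ha g := by rw [← ha (a⁻¹ g), MulAut.apply_inv_self]

include hF H

theorem fs_depends (φ : MulAut P) {g h : P} (e : H.fs g = H.fs h) :
    H.fs (φ g) = H.fs (φ h) := by
  have h0 : H.fs (g * h) = 0 := by rw [H.fs_mul, e, CharTwo.add_self_eq_zero]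
  have hc : φ (g * h) ∈ Subgroup.center P := by
    rw [Subgroup.mem_center_iff]
    intro k
    obtain ⟨k, rfl⟩ := φ.surjective k
    rw [← map_mul, ← map_mul, Subgroup.mem_center_iff.1 ((H.mem_center hF).2 h0) k]
  have h1 := (H.mem_center hF).1 hc
  rw [map_mul, H.fs_mul] at h1
  exact eq_of_add_eq_zero h1

theorem exists_semilinear' {n : ℕ} (hq : q = 2 ^ n) (hn : 1 ≤ n) (φ : MulAut P) :
    ∃ l : Fˣ, ∃ i : Fin (2 * n), ∀ g, H.fs (φ g) = l * H.fs g ^ 2 ^ (i : ℕ) := by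
  choose sec hsec using H.fs_surj hF
  let A : F →+ F :=
    { toFun := fun a => H.fs (φ (sec a))
      map_zero' := by
        rw [H.fs_depends hF φ (show H.fs (sec 0) = H.fs 1 by rw [hsec, H.fs_one]), map_one, H.fs_one]
      map_add' := fun a b => by
        rw [← H.fs_mul, ← map_mul]
        exact H.fs_depends hF φ (by rw [H.fs_mul, hsec, hsec, hsec]) }
  have hA : ∀ g, H.fs (φ g) = A (H.fs g) := fun g => H.fs_depends hF φ (hsec _).symm
  have hinj : Function.Injective A := by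
    rw [injective_iff_map_eq_zero]
    intro a ha
    have h : H.fs (φ.symm (φ (sec a))) = H.fs (φ.symm 1) :=
      H.fs_depends hF φ.symm (by rw [H.fs_one]; exact ha)
    rwa [φ.symm_apply_apply, map_one, hsec, H.fs_one] at h
  have hzc : ∀ c, ∃ g, c ∈ Fx hF → H.fs g = 0 ∧ H.sn g = c := fun c => by
    by_cases hc : c ∈ Fx hF
    · obtain ⟨g, hg⟩ := H.exists_mk (a := 0) (c := c) (show c + c ^ q = N q 0 by
        rw [(mem_Fx hF).1 hc, CharTwo.add_self_eq_zero, N, zero_mul])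
      exact ⟨g, fun _ => hg⟩
    · exact ⟨1, fun h => absurd h hc⟩
  choose zc hzc using hzc
  obtain ⟨l, hl, i, hi, h⟩ := exists_semilinear hF hq hn A hinj (fun c => H.sn (φ (zc c)))
    (fun c hc d hd => by
      have h1 : zc (c + d) = zc c * zc d := H.ext
        (by rw [(hzc _ ((Fx hF).add_mem hc hd)).1, H.fs_mul, (hzc _ hc).1, (hzc _ hd).1, add_zero])
        (by rw [(hzc _ ((Fx hF).add_mem hc hd)).2, H.sn_mul, (hzc _ hc).2, (hzc _ hd).2,
          (hzc _ hd).1, zero_mul, add_zero])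
      have hd0 : H.fs (φ (zc d)) = 0 := by
        rw [hA, (hzc _ hd).1, map_zero]
      show H.sn (φ (zc (c + d))) = H.sn (φ (zc c)) + H.sn (φ (zc d))
      rw [h1, map_mul, H.sn_mul, hd0, zero_mul, add_zero])
    (fun a => by
      have h1 : zc (N q a) = sec a * sec a := H.ext
        (by rw [(hzc _ (N_mem hF a)).1, H.fs_sq hF])
        (by rw [(hzc _ (N_mem hF a)).2, H.sn_sq hF, hsec])
      show H.sn (φ (zc (N q a))) = N q (A a)
      rw [h1, map_mul, H.sn_sq hF, hA, hsec])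
  exact ⟨Units.mk0 l hl, ⟨i, hi⟩, fun g => by rw [hA, h]; rfl⟩

omit H in
theorem cnd_twist (l : Fˣ) (i : ℕ) {p : F × F} (hp : Cnd q p) :
    Cnd q ((l : F) * p.1 ^ 2 ^ i, N q (l : F) * p.2 ^ 2 ^ i) := by
  show N q (l : F) * p.2 ^ 2 ^ i + (N q (l : F) * p.2 ^ 2 ^ i) ^ q = N q ((l : F) * p.1 ^ 2 ^ i)
  have hp' : p.2 + p.2 ^ q = N q p.1 := hp
  have e := congrArg (fun x : F => x ^ 2 ^ i) hp'
  simp only [add_pow_char_pow] at e
  rw [mul_pow, show N q (l : F) ^ q = N q (l : F) from N_mem hF _, ← mul_add, ← pow_mul,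
    mul_comm (2 ^ i) q, pow_mul, e]
  simp only [N, mul_pow, ← pow_mul, mul_comm (2 ^ i) q]
  ring

/-- The semilinear automorphisms. -/
noncomputable def Φ (l : Fˣ) (i : ℕ) : MulAut P :=
  MulEquiv.ofBijective
    (MonoidHom.mk' (fun g => H.toEquiv.symm ⟨_, cnd_twist hF l i (H.toEquiv g).2⟩) fun g h =>
      H.toEquiv.injective <| Subtype.ext <| Prod.ext
        (by simp only [Equiv.apply_symm_apply, H.fst_mul, add_pow_char_pow]; ring)
        (by
          simp only [Equiv.apply_symm_apply, H.snd_mul, H.fst_mul, add_pow_char_pow, mul_pow, N,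
            ← pow_mul, mul_comm (2 ^ i) q]
          ring))
    (by
      haveI := H.finite hF
      refine Function.Injective.bijective_of_finite fun g h e => ?_
      have e' := congrArg (fun x => (H.toEquiv x).1) e
      simp only [MonoidHom.mk'_apply, Equiv.apply_symm_apply, Prod.ext_iff] at e'
      refine H.ext ?_ ?_
      · exact iterateFrobenius_inj F 2 i (by
          simpa [iterateFrobenius_def, fs, sn] using mul_left_cancel₀ l.ne_zero e'.1)
      · exact iterateFrobenius_inj F 2 i (by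
          simpa [iterateFrobenius_def, fs, sn] using mul_left_cancel₀
            (mul_ne_zero l.ne_zero (pow_ne_zero _ l.ne_zero)) e'.2))

theorem fs_Φ (l : Fˣ) (i : ℕ) (g : P) : H.fs (H.Φ hF l i g) = l * H.fs g ^ 2 ^ i := by
  simp [Φ, fs]

theorem cnd_shift (h : F →+ Fx hF) {p : F × F} (hp : Cnd q p) :
    Cnd q (p.1, p.2 + (h p.1 : F)) := by
  show p.2 + (h p.1 : F) + (p.2 + (h p.1 : F)) ^ q = N q p.1
  rw [Herm.conj_add hF, show (h p.1 : F) ^ q = h p.1 from (h p.1).2]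
  have hp' : p.2 + p.2 ^ q = N q p.1 := hp
  linear_combination hp' + (h p.1 : F) * CharTwo.two_eq_zero (R := F)

/-- The central automorphisms. -/
noncomputable def Ψ (h : F →+ Fx hF) : MulAut P :=
  MulEquiv.ofBijective
    (MonoidHom.mk' (fun g => H.toEquiv.symm ⟨_, H.cnd_shift hF h (H.toEquiv g).2⟩) fun g k =>
      H.toEquiv.injective <| Subtype.ext <| Prod.ext
        (by simp only [Equiv.apply_symm_apply, H.fst_mul])
        (by
          simp only [Equiv.apply_symm_apply, H.snd_mul, H.fst_mul, map_add, AddSubgroup.coe_add]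
          ring))
    (by
      haveI := H.finite hF
      refine Function.Injective.bijective_of_finite fun g k e => ?_
      have e' := congrArg (fun x => (H.toEquiv x).1) e
      simp only [MonoidHom.mk'_apply, Equiv.apply_symm_apply, Prod.ext_iff] at e'
      refine H.ext e'.1 ?_
      have e2 := e'.2
      rw [e'.1] at e2
      exact add_right_cancel e2)

theorem fs_Ψ (h : F →+ Fx hF) (g : P) : H.fs (H.Ψ hF h g) = H.fs g := by simp [Ψ, fs]

theorem sn_Ψ (h : F →+ Fx hF) (g : P) : H.sn (H.Ψ hF h g) = H.sn g + h (H.fs g) := by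
  simp [Ψ, fs, sn]

theorem Ψ_add (h k : F →+ Fx hF) : H.Ψ hF (h + k) = H.Ψ hF h * H.Ψ hF k := by
  refine MulEquiv.ext fun g => H.ext ?_ ?_
  · rw [MulAut.mul_apply, H.fs_Ψ hF, H.fs_Ψ hF, H.fs_Ψ hF]
  · rw [MulAut.mul_apply, H.sn_Ψ hF, H.sn_Ψ hF, H.sn_Ψ hF, H.fs_Ψ hF, AddMonoidHom.add_apply,
      AddSubgroup.coe_add]
    ring

theorem Ψ_bij : Function.Bijective
    fun h : F →+ Fx hF => (⟨H.Ψ hF h, H.fs_Ψ hF h⟩ : H.Ker) := by
  constructor
  · intro h k e
    refine AddMonoidHom.ext fun a => ?_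
    obtain ⟨g, rfl⟩ := H.fs_surj hF a
    have e' := congrArg (fun φ : H.Ker => H.sn ((φ : MulAut P) g)) e
    simp only [H.sn_Ψ hF] at e'
    exact Subtype.ext (add_left_cancel e')
  · rintro ⟨φ, hφ : ∀ g, H.fs (φ g) = H.fs g⟩
    let δ : P → F := fun g => H.sn (φ g) + H.sn g
    have hδm : ∀ g k, δ (g * k) = δ g + δ k := fun g k => by
      show H.sn (φ (g * k)) + H.sn (g * k) = _
      rw [map_mul, H.sn_mul, H.sn_mul, hφ, hφ]
      simp only [δ]
      linear_combination (H.fs k * H.fs g ^ q) * CharTwo.two_eq_zero (R := F)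
    have hδc : ∀ g, H.fs g = 0 → δ g = 0 := fun g hg => by
      obtain ⟨a, ha⟩ := N_surj hF (H.sn_mem_of_fs hF hg)
      obtain ⟨k, rfl⟩ := H.fs_surj hF a
      have e : g = k * k := H.ext (by rw [hg, H.fs_sq hF]) (by rw [H.sn_sq hF, ha])
      show H.sn (φ g) + H.sn g = 0
      rw [e, map_mul, H.sn_sq hF, H.sn_sq hF, hφ, CharTwo.add_self_eq_zero]
    have hδd : ∀ g k, H.fs g = H.fs k → δ g = δ k := fun g k e => by
      have := hδc (g * k) (by rw [H.fs_mul, e, CharTwo.add_self_eq_zero])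
      rw [hδm] at this
      exact eq_of_add_eq_zero this
    have hδF : ∀ g, δ g ∈ Fx hF := fun g => by
      rw [mem_Fx]
      show (H.sn (φ g) + H.sn g) ^ q = H.sn (φ g) + H.sn g
      rw [Herm.conj_add hF]
      have h1 := H.cnd (φ g)
      rw [hφ] at h1
      have h2 := H.cnd g
      linear_combination h1 + h2 - (H.sn (φ g) + H.sn g) * CharTwo.two_eq_zero (R := F) +
        CharTwo.two_eq_zero (R := F) * N q (H.fs g)
    choose sec hsec using H.fs_surj hF
    let h : F →+ Fx hF := AddMonoidHom.mk' (fun a => ⟨δ (sec a), hδF _⟩) fun a b => Subtype.ext (by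
      rw [AddSubgroup.coe_add, ← hδm]
      exact hδd _ _ (by rw [H.fs_mul, hsec, hsec, hsec]))
    refine ⟨h, Subtype.ext (MulEquiv.ext fun g => H.ext ?_ ?_)⟩
    · show H.fs (H.Ψ hF h g) = H.fs (φ g)
      rw [H.fs_Ψ hF, hφ]
    · show H.sn (H.Ψ hF h g) = H.sn (φ g)
      rw [H.sn_Ψ hF]
      show H.sn g + δ (sec (H.fs g)) = _
      rw [hδd (sec (H.fs g)) g (hsec _)]
      show H.sn g + (H.sn (φ g) + H.sn g) = _
      linear_combination H.sn g * CharTwo.two_eq_zero (R := F)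

theorem card_Ker {n : ℕ} (hq : q = 2 ^ n) : Nat.card H.Ker = 2 ^ (2 * n ^ 2) := by
  haveI : Fact (Nat.Prime 2) := ⟨Nat.prime_two⟩
  rw [← Nat.card_congr (Equiv.ofBijective _ (H.Ψ_bij hF))]
  letI : Algebra (ZMod 2) F := ZMod.algebra F 2
  letI : Module (ZMod 2) (Fx hF) := AddCommGroup.zmodModule fun x => by
    rw [two_nsmul]; exact Subtype.ext (CharTwo.add_self_eq_zero _)
  let e : (F →+ Fx hF) ≃ (F →ₗ[ZMod 2] Fx hF) :=
    { toFun := fun f => f.toZModLinearMap 2
      invFun := fun f => f.toAddMonoidHom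
      left_inv := fun _ => rfl
      right_inv := fun _ => rfl }
  have hd : Module.finrank (ZMod 2) F = 2 * n := by
    have h := Module.card_eq_pow_finrank (K := ZMod 2) (V := F)
    rw [hF, hq, ← pow_mul, ZMod.card] at h
    rw [← Nat.pow_right_injective le_rfl h, mul_comm]
  let b := Module.finBasisOfFinrankEq (ZMod 2) F hd
  rw [Nat.card_congr (e.trans (b.constr (ZMod 2)).toEquiv.symm), Nat.card_fun, card_Fx, Nat.card_fin,
    hq, ← pow_mul]
  ring_nf

theorem Ker_normal : H.Ker.Normal := by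
  refine ⟨fun φ hφ ψ g => ?_⟩
  show H.fs (ψ (φ (ψ⁻¹ g))) = H.fs g
  rw [H.fs_depends hF ψ (hφ (ψ⁻¹ g)), MulAut.apply_inv_self]

theorem Ker_elementary : Cfsg.IsElementaryAbelian 2 H.Ker := by
  refine ⟨⟨⟨fun a b => ?_⟩⟩, fun a ha => ?_⟩
  · obtain ⟨h, rfl⟩ := (H.Ψ_bij hF).2 a
    obtain ⟨k, rfl⟩ := (H.Ψ_bij hF).2 b
    exact Subtype.ext (show H.Ψ hF h * H.Ψ hF k = H.Ψ hF k * H.Ψ hF h by
      rw [← H.Ψ_add hF, ← H.Ψ_add hF, add_comm])
  · obtain ⟨h, e⟩ := (H.Ψ_bij hF).2 ⟨a, ha⟩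
    rw [← show H.Ψ hF h = a from congrArg Subtype.val e, sq, ← H.Ψ_add hF]
    refine MulEquiv.ext fun g => H.ext (H.fs_Ψ hF _ g) ?_
    rw [H.sn_Ψ hF, AddMonoidHom.add_apply, AddSubgroup.coe_add, CharTwo.add_self_eq_zero, add_zero]
    rfl

theorem isPGroup_Ker : IsPGroup 2 H.Ker := fun a =>
  ⟨1, Subtype.ext (show (a : MulAut P) ^ (2 ^ 1) = 1 by
    rw [pow_one]; exact (H.Ker_elementary hF).2 a a.2)⟩

theorem fs_pow {ν : F} {c : MulAut P} (hc : ∀ g, H.fs (c g) = ν * H.fs g) :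
    ∀ (k : ℕ) (g : P), H.fs ((c ^ k) g) = ν ^ k * H.fs g
  | 0, g => by simp
  | k + 1, g => by rw [pow_succ', MulAut.mul_apply, hc, fs_pow hc k g, pow_succ', mul_assoc]

theorem eq_one_of_scalar {ν : F} {c : MulAut P} (hc : ∀ g, H.fs (c g) = ν * H.fs g) {k : ℕ}
    (hk : c ^ 2 ^ k = 1) : ν = 1 := by
  obtain ⟨g, hg⟩ := H.fs_surj hF 1
  have h := H.fs_pow hF hc (2 ^ k) g
  rw [hk, MulAut.one_apply, hg, mul_one] at h
  exact iterateFrobenius_inj F 2 k (by simp [iterateFrobenius_def, ← h])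

theorem pCore_eq {n : ℕ} (hq : q = 2 ^ n) (hn : 1 ≤ n) : Cfsg.pCore 2 (MulAut P) = H.Ker := by
  haveI : Fact (Nat.Prime 2) := ⟨Nat.prime_two⟩
  haveI := H.finite hF
  haveI : Finite (MulAut P) := Finite.of_injective (fun φ => (φ : P → P)) DFunLike.coe_injective
  refine le_antisymm (fun x hx => ?_) (Fusion.le_pCore (H.Ker_normal hF) (H.isPGroup_Ker hF))
  have hN := Fusion.pCore_normal (p := 2) (X := MulAut P)
  have hp : ∀ y ∈ Cfsg.pCore 2 (MulAut P), ∃ k, y ^ 2 ^ k = 1 := fun y hy => by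
    obtain ⟨k, hk⟩ := Fusion.isPGroup_pCore (p := 2) (X := MulAut P) ⟨y, hy⟩
    exact ⟨k, congrArg Subtype.val hk⟩
  obtain ⟨l, i, hli⟩ := H.exists_semilinear' hF hq hn x
  obtain ⟨g₁, hg₁⟩ := H.fs_surj hF 1
  have hsc : ∀ μ : F, μ ^ 2 ^ (i : ℕ) = μ := by
    intro μ
    rcases eq_or_ne μ 0 with rfl | hμ
    · exact zero_pow (by positivity)
    let y := H.Φ hF (Units.mk0 μ hμ) 0
    have hy : ∀ g, H.fs (y g) = μ * H.fs g := fun g => by
      rw [H.fs_Φ hF, pow_zero, pow_one, Units.val_mk0]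
    let c := x * (y * x⁻¹ * y⁻¹)
    have hc : c ∈ Cfsg.pCore 2 (MulAut P) := mul_mem hx (hN.conj_mem _ (inv_mem hx) y)
    obtain ⟨ν, j, hνj⟩ := H.exists_semilinear' hF hq hn c
    have hcxy : c * (y * x) = x * y := by simp only [c]; group
    have e : ∀ a : F, (ν : F) * (μ * (l * a ^ 2 ^ (i : ℕ))) ^ 2 ^ (j : ℕ) =
        l * (μ * a) ^ 2 ^ (i : ℕ) := fun a => by
      obtain ⟨g, rfl⟩ := H.fs_surj hF a
      have := congrArg (fun φ : MulAut P => H.fs (φ g)) hcxy
      simpa only [MulAut.mul_apply, hνj, hy, hli] using this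
    have e1 := e 1
    simp only [one_pow, mul_one] at e1
    have hne : (ν : F) * (μ * l) ^ 2 ^ (j : ℕ) ≠ 0 :=
      mul_ne_zero ν.ne_zero (pow_ne_zero _ (mul_ne_zero hμ l.ne_zero))
    have hj : ∀ b : F, b ^ 2 ^ (j : ℕ) = b := fun b => by
      obtain ⟨a, rfl⟩ := (iterateFrobenius F 2 i).injective.bijective_of_finite.2 b
      rw [iterateFrobenius_def]
      refine mul_left_cancel₀ hne ?_
      have ea := e a
      simp only [mul_pow] at ea e1 ⊢
      linear_combination ea - (a ^ 2 ^ (i : ℕ)) * e1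
    obtain ⟨k, hk⟩ := hp c hc
    have hν1 : (ν : F) = 1 := H.eq_one_of_scalar hF (fun g => by rw [hνj, hj]) hk
    rw [hν1, one_mul, hj] at e1
    exact mul_left_cancel₀ l.ne_zero (by linear_combination -e1)
  obtain ⟨k, hk⟩ := hp x hx
  have hl1 : (l : F) = 1 := H.eq_one_of_scalar hF (fun g => by rw [hli, hsc]) hk
  intro g
  rw [hli, hsc, hl1, one_mul]

theorem card_mulAut {n : ℕ} (hq : q = 2 ^ n) (hn : 1 ≤ n) :
    Nat.card (MulAut P) = 2 ^ (2 * n ^ 2) * (2 * n * ((2 ^ n) ^ 2 - 1)) := by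
  classical
  have hN₀ : Fintype.card F = 2 ^ (2 * n) := by rw [hF, hq, ← pow_mul, mul_comm n 2]
  let Ω : (Fˣ × Fin (2 * n)) × H.Ker → MulAut P := fun x => H.Φ hF x.1.1 x.1.2 * x.2
  have hfs : ∀ x g, H.fs (Ω x g) = x.1.1 * H.fs g ^ 2 ^ (x.1.2 : ℕ) := fun x g => by
    simp only [Ω, MulAut.mul_apply]
    rw [H.fs_Φ hF, x.2.2 g]
  have hbij : Function.Bijective Ω := by
    constructor
    · intro x y e
      have key : ∀ a : F, (x.1.1 : F) * a ^ 2 ^ (x.1.2 : ℕ) = y.1.1 * a ^ 2 ^ (y.1.2 : ℕ) := fun a => by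
        obtain ⟨g, rfl⟩ := H.fs_surj hF a
        rw [← hfs, ← hfs, e]
      have hl : x.1.1 = y.1.1 := Units.ext (by simpa using key 1)
      have hi : x.1.2 = y.1.2 := Fin.ext <|
        frobenius_index_unique hN₀ x.1.2.2 y.1.2.2 fun a =>
          mul_left_cancel₀ y.1.1.ne_zero (by have := key a; rwa [hl] at this)
      have h1 : x.1 = y.1 := Prod.ext hl hi
      refine Prod.ext h1 (Subtype.ext ?_)
      simp only [Ω, h1] at e
      exact mul_left_cancel e
    · intro φ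
      obtain ⟨l, i, h⟩ := H.exists_semilinear' hF hq hn φ
      have hk : (H.Φ hF l i)⁻¹ * φ ∈ H.Ker := fun g => by
        have e := H.fs_Φ hF l i ((H.Φ hF l i)⁻¹ (φ g))
        rw [MulAut.apply_inv_self, h] at e
        exact iterateFrobenius_inj F 2 i (by
          simpa [iterateFrobenius_def] using (mul_left_cancel₀ l.ne_zero e).symm)
      exact ⟨⟨⟨l, i⟩, ⟨_, hk⟩⟩, mul_inv_cancel_left _ _⟩
  rw [← Nat.card_congr (Equiv.ofBijective Ω hbij), Nat.card_prod, Nat.card_prod, Nat.card_fin,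
    H.card_Ker hF hq, Nat.card_eq_fintype_card, Fintype.card_units, hF, hq]
  ring

theorem no_perm_three {n : ℕ} (hq : q = 2 ^ n) (hn : n = 2) (K : Subgroup (MulAut P)) :
    ¬ Nonempty (K ≃* Equiv.Perm (Fin 3)) := by
  classical
  rintro ⟨e⟩
  subst hn
  obtain ⟨γ, hγ⟩ := IsCyclic.exists_ofOrder_eq_natCard (α := Fˣ)
  have h15 : orderOf γ = 15 := by
    rw [hγ, Nat.card_eq_fintype_card, Fintype.card_units, hF, hq]; rfl
  have hord : ∀ m : ℕ, (∀ a : F, a ^ m = a) → m % 15 = 1 := fun m hm => by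
    have : γ ^ m = γ ^ 1 := Units.ext (by simpa using hm (γ : F))
    have := pow_eq_pow_iff_modEq.1 this
    rwa [Nat.ModEq, h15] at this
  let s : K := e.symm (Equiv.swap 0 1)
  let r : K := e.symm (finRotate 3)
  have hs2 : s * s = 1 := by
    rw [← map_mul, Equiv.swap_mul_self, map_one]
  have hr3 : r * r * r = 1 := by
    rw [← map_mul, ← map_mul, show finRotate 3 * finRotate 3 * finRotate 3 = 1 by decide, map_one]
  have hrs : s * r = r * r * s := by
    rw [← map_mul, ← map_mul, ← map_mul]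
    exact congrArg e.symm (by decide)
  have hr1 : r ≠ 1 := fun h => by
    have := congrArg e h
    rw [e.apply_symm_apply, map_one] at this
    exact absurd this (by decide)
  obtain ⟨L, i, hri⟩ := H.exists_semilinear' hF hq (by norm_num) (r : MulAut P)
  obtain ⟨M, j, hsj⟩ := H.exists_semilinear' hF hq (by norm_num) (s : MulAut P)
  have happ : ∀ {x y : K}, x = y → ∀ g, H.fs ((x : MulAut P) g) = H.fs ((y : MulAut P) g) :=
    fun h g => by rw [h]
  have es : ∀ a : F, (M : F) * (M * a ^ 2 ^ (j : ℕ)) ^ 2 ^ (j : ℕ) = a := fun a => by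
    obtain ⟨g, rfl⟩ := H.fs_surj hF a
    simpa only [Subgroup.coe_mul, MulAut.mul_apply, hsj, Subgroup.coe_one, MulAut.one_apply]
      using happ hs2 g
  have er : ∀ a : F, (L : F) * (L * (L * a ^ 2 ^ (i : ℕ)) ^ 2 ^ (i : ℕ)) ^ 2 ^ (i : ℕ) = a :=
    fun a => by
      obtain ⟨g, rfl⟩ := H.fs_surj hF a
      simpa only [Subgroup.coe_mul, MulAut.mul_apply, hri, Subgroup.coe_one, MulAut.one_apply]
        using happ hr3 g
  have hi3 : 2 ^ ((i : ℕ) + i + i) % 15 = 1 := hord _ fun a => by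
    have h1 := er 1
    have ha := er a
    simp only [mul_pow, one_pow, mul_one, ← pow_mul, ← pow_add] at h1 ha
    linear_combination ha - a ^ 2 ^ ((i : ℕ) + i + i) * h1
  have hj2 : 2 ^ ((j : ℕ) + j) % 15 = 1 := hord _ fun a => by
    have h1 := es 1
    have ha := es a
    simp only [mul_pow, one_pow, mul_one, ← pow_mul, ← pow_add] at h1 ha
    linear_combination ha - a ^ 2 ^ ((j : ℕ) + j) * h1
  have hi0 : (i : ℕ) = 0 := by
    have := i.2; generalize (i : ℕ) = m at hi3 this ⊢; interval_cases m <;> first | rfl | norm_num at hi3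
  have hj02 : (j : ℕ) = 0 ∨ (j : ℕ) = 2 := by
    have := j.2; generalize (j : ℕ) = m at hj2 this ⊢; interval_cases m <;> first | exact Or.inl rfl | exact Or.inr rfl | norm_num at hj2
  simp only [hi0, pow_zero, pow_one] at hri er
  have hL3 : (L : F) * (L * L) = 1 := by simpa using er 1
  have hLj : (L : F) ^ 2 ^ (j : ℕ) = L := by
    rcases hj02 with e | e <;> rw [e]
    · rw [pow_zero, pow_one]
    · norm_num
      linear_combination (L : F) * hL3
  have h := happ hrs (Classical.choose (H.fs_surj hF 1))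
  simp only [Subgroup.coe_mul, MulAut.mul_apply, hri, hsj,
    Classical.choose_spec (H.fs_surj hF 1), one_pow, mul_one, hLj] at h
  have hL1 : (L : F) = 1 := by
    have h2 : (L : F) * (M * (1 : F)) = L * (L * (M * 1)) := by linear_combination h
    have h3 := mul_left_cancel₀ L.ne_zero h2
    exact (mul_right_cancel₀ (mul_ne_zero M.ne_zero one_ne_zero) ((one_mul _).trans h3)).symm
  have hrK : (r : MulAut P) ∈ H.Ker := fun g => by rw [hri, hL1, one_mul]
  have hr2 : r * r = 1 := Subtype.ext (by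
    show (r : MulAut P) * r = 1
    rw [← sq]; exact (H.Ker_elementary hF).2 _ hrK)
  rw [hr2, one_mul] at hr3
  exact hr1 hr3

end Shape

end Cfsg.Agent.Lib.U3Sylow
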