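import Cfsg.Agent.Lib.AutPSU.Space

/-!
Involutive semilinearity lemma: an involutive additive map of the field of `q^2` elements which is
compatible with the norm to the field of `q` elements preserves the norm (characteristic two).
-/

set_option autoImplicit false

namespace Cfsg.Agent.Lib.U3Sylow

open Cfsg.Agent.Lib.Classical

universe u

variable {F : Type u} [Field F] [Fintype F] {q : ℕ} (hF : Fintype.card F = q ^ 2)

/-- The fixed field of the conjugation, as an additive group. -/
def Fx (hF : Fintype.card F = q ^ 2) : AddSubgroup F where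
  carrier := {x | x ^ q = x}
  zero_mem' := Herm.conj_zero hF
  add_mem' {a b} ha hb := by
    show (a + b) ^ q = a + b
    rw [Herm.conj_add hF, show a ^ q = a from ha, show b ^ q = b from hb]
  neg_mem' {a} ha := by
    show (-a) ^ q = -a
    rw [Herm.conj_neg hF, show a ^ q = a from ha]

theorem mem_Fx {x : F} : x ∈ Fx hF ↔ x ^ q = x := Iff.rfl

theorem card_Fx : Nat.card (Fx hF) = q := Herm.card_fixed hF

/-- The norm to the fixed field. -/
abbrev N (q : ℕ) (x : F) : F := x * x ^ q

/-- The polar form of the norm. -/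
abbrev B (q : ℕ) (x y : F) : F := x * y ^ q + y * x ^ q

include hF in
theorem N_mem (x : F) : N q x ∈ Fx hF := by
  rw [mem_Fx, mul_pow, Herm.conj_conj hF, mul_comm]

include hF in
theorem B_mem (x y : F) : B q x y ∈ Fx hF := by
  rw [mem_Fx, Herm.conj_add hF, mul_pow, mul_pow, Herm.conj_conj hF, Herm.conj_conj hF]
  ring

include hF in
theorem N_add (x y : F) : N q (x + y) = N q x + N q y + B q x y := by
  simp only [N, B, Herm.conj_add hF]
  ring

include hF in
theorem N_surj {c : F} (hc : c ∈ Fx hF) : ∃ x : F, N q x = c := by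
  obtain ⟨a, ha⟩ := Cfsg.Agent.Lib.Forms.exists_norm_eq
    (Cfsg.Agent.Lib.Forms.isUnitary_hermForm hF 1) (a := c)
    (by rw [Cfsg.Agent.Lib.Forms.conjQ_apply]; exact hc)
  exact ⟨a, by rwa [Cfsg.Agent.Lib.Forms.conjQ_apply] at ha⟩

include hF in
theorem q_ne_zero : q ≠ 0 := by have := Herm.two_le_q hF; omega

variable [CharP F 2]

theorem eq_of_add_eq_zero {x y : F} (h : x + y = 0) : x = y := CharTwo.add_eq_zero.1 h

include hF in
theorem B_eq_zero {x y : F} (hy : y ≠ 0) (h : B q x y = 0) : (x / y) ^ q = x / y := by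
  have e : x * y ^ q = y * x ^ q := CharTwo.add_eq_zero.1 h
  have hyq : y ^ q ≠ 0 := pow_ne_zero _ hy
  rw [div_pow]
  field_simp
  linear_combination -e

include hF in
theorem fixed_sq_surj {c : F} (hc : c ∈ Fx hF) : ∃ r ∈ Fx hF, r * r = c := by
  obtain ⟨r, hr⟩ := frobenius_bijective_sq c
  refine ⟨r, ?_, hr⟩
  rw [mem_Fx]
  have e : r ^ q * r ^ q = r * r := by rw [← mul_pow, hr]; exact hc
  exact (CharTwo.add_eq_zero (R := F)).1 <| pow_eq_zero_iff (n := 2) (by norm_num) |>.1 <| by
    rw [CharTwo.add_sq, sq, sq, e, CharTwo.add_self_eq_zero]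
where
  frobenius_bijective_sq (c : F) : ∃ r, r * r = c := by
    obtain ⟨r, hr⟩ := (frobenius F 2).injective.bijective_of_finite.2 c
    exact ⟨r, by rw [← hr, frobenius_def, sq]⟩

include hF in
/-- The configuration which cannot occur. -/
theorem no_half_field {C E : AddSubgroup F} (h1 : (1 : F) ∈ C)
    (hE : Nat.card E * Nat.card E = q) (hC : Nat.card C = q) (hNC : ∀ x ∈ C, N q x ∈ E)
    (hBC : ∀ x ∈ C, ∀ y ∈ C, B q x y ∈ E) {v : F} (hv : v ∈ C) (hvn : v ^ q ≠ v) : False := by
  classical
  have hone : (1 : F) ∈ E := by simpa [N] using hNC 1 h1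
  let T : F →+ F :=
    { toFun := fun x => x + x ^ q
      map_zero' := by simp [Herm.conj_zero hF]
      map_add' := fun a b => by simp only [Herm.conj_add hF]; ring }
  let φ : C →+ E := (T.comp C.subtype).codRestrict E fun x => by
    have := hBC x x.2 1 h1
    simpa [B, T] using this
  have hker : ∀ x : C, x ∈ φ.ker ↔ (x : F) ^ q = x := fun x => by
    rw [AddMonoidHom.mem_ker, Subtype.ext_iff]
    show (x : F) + (x : F) ^ q = 0 ↔ _
    rw [CharTwo.add_eq_zero, eq_comm]
  let t₀ : F := v + v ^ q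
  have ht₀ : t₀ ≠ 0 := fun h => hvn (eq_of_add_eq_zero h).symm
  have hmulE : ∀ x : φ.ker, ∀ w ∈ C, ((x : C) : F) * (w + w ^ q) ∈ E := fun x w hw => by
    have h := hBC _ (x : C).2 w hw
    rw [B, (hker x).1 x.2] at h
    rwa [show ((x : C) : F) * (w + w ^ q) = (x : C) * w ^ q + w * (x : C) by ring]
  have hkle : ∀ w ∈ C, w + w ^ q ≠ 0 →
      ∃ g : φ.ker → E, Function.Injective g ∧ ∀ x, (g x : F) = ((x : C) : F) * (w + w ^ q) :=
    fun w hw hw0 => ⟨fun x => ⟨_, hmulE x w hw⟩, fun x y h => Subtype.ext (Subtype.ext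
      (mul_right_cancel₀ hw0 (congrArg Subtype.val h))), fun _ => rfl⟩
  have hprod : Nat.card φ.ker * Nat.card φ.range = q := by
    rw [← AddSubgroup.index_ker, AddSubgroup.card_mul_index, hC]
  have hk : Nat.card φ.ker ≤ Nat.card E := by
    obtain ⟨g, hg, -⟩ := hkle v hv ht₀
    exact Nat.card_le_card_of_injective g hg
  have hr : Nat.card φ.range ≤ Nat.card E :=
    Nat.card_le_card_of_injective _ φ.range.subtype_injective
  have hEpos : 0 < Nat.card E := Nat.card_pos
  have hreq : Nat.card φ.range = Nat.card E := by nlinarith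
  have hkeq : Nat.card φ.ker = Nat.card E := by nlinarith
  have hsurj : ∀ t ∈ E, ∃ w ∈ C, w + w ^ q = t := by
    intro t ht
    have : φ.range = ⊤ := AddSubgroup.eq_top_of_card_eq _ hreq
    obtain ⟨w, hw⟩ := (AddMonoidHom.range_eq_top.1 this) ⟨t, ht⟩
    exact ⟨w, w.2, congrArg Subtype.val hw⟩
  have hdivsq : ∀ t ∈ E, t ≠ 0 → ∀ e ∈ E, (e / t) * (e / t) ∈ E := by
    intro t ht ht0 e he
    obtain ⟨w, hw, rfl⟩ := hsurj t ht
    obtain ⟨g, hg, hgv⟩ := hkle w hw ht0
    obtain ⟨x, hx⟩ := ((Nat.bijective_iff_injective_and_card g).2 ⟨hg, hkeq⟩).2 ⟨e, he⟩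
    have hxe : ((x : C) : F) * (w + w ^ q) = e := by rw [← hgv x, hx]
    have h2 := hNC _ (x : C).2
    rw [N, (hker x).1 x.2] at h2
    rwa [← hxe, mul_div_assoc, div_self ht0, mul_one]
  have hsq : ∀ e ∈ E, ∃ d ∈ E, d * d = e := by
    let g : E → E := fun e => ⟨(e : F) * e, by simpa using hdivsq 1 hone one_ne_zero e e.2⟩
    have hg : Function.Injective g := fun a b h => Subtype.ext <| frobenius_inj F 2 <| by
      simp only [frobenius_def, sq]
      exact congrArg Subtype.val h
    intro e he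
    obtain ⟨d, hd⟩ := hg.bijective_of_finite.2 ⟨e, he⟩
    exact ⟨d, d.2, congrArg Subtype.val hd⟩
  have hdiv : ∀ x ∈ E, ∀ y ∈ E, x / y ∈ E := by
    intro x hx y hy
    obtain ⟨a, ha, rfl⟩ := hsq x hx
    obtain ⟨b, hb, rfl⟩ := hsq y hy
    rcases eq_or_ne b 0 with rfl | hb0
    · simp
    · rw [← div_mul_div_comm]; exact hdivsq b hb hb0 a ha
  let L : Subfield F :=
    { carrier := E
      zero_mem' := E.zero_mem
      one_mem' := hone
      add_mem' := fun ha hb => E.add_mem ha hb
      neg_mem' := fun ha => E.neg_mem ha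
      inv_mem' := fun x hx => by simpa using hdiv 1 hone x hx
      mul_mem' := fun {a b} ha hb => by
        have := hdiv a ha _ (hdiv 1 hone b hb)
        simpa using this }
  haveI : Fintype L := Fintype.ofFinite _
  have hpow : ∀ e ∈ E, e ^ Nat.card E = e := fun e he => by
    have h : (⟨e, he⟩ : L) ^ Nat.card L = ⟨e, he⟩ := by
      rw [Nat.card_eq_fintype_card]; exact FiniteField.pow_card _
    exact congrArg Subtype.val h
  obtain ⟨k, hk2⟩ : ∃ k, Nat.card E = 2 ^ k := by
    haveI : CharP L 2 := (RingHom.charP_iff_charP L.subtype 2).2 inferInstance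
    obtain ⟨k, -, hk⟩ := FiniteField.card L 2
    exact ⟨k, by rw [← hk, ← Nat.card_eq_fintype_card]; rfl⟩
  obtain ⟨w, hw, hw1⟩ := hsurj 1 hone
  have hquad : w * w + w + N q w = 0 := by
    rw [N]
    linear_combination w * hw1 + CharTwo.two_eq_zero (R := F) * w
  have hfr : ∀ a b : F, (a + b) ^ Nat.card E = a ^ Nat.card E + b ^ Nat.card E := fun a b => by
    rw [hk2]; exact add_pow_char_pow a b 2 k
  have hm0 : Nat.card E ≠ 0 := hEpos.ne'
  have hd : ∀ z : F, z = w ^ Nat.card E + w → z * (z + 1) = 0 := by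
    rintro z rfl
    have := congrArg (fun t : F => t ^ Nat.card E) hquad
    simp only [hfr, mul_pow, zero_pow hm0, hpow _ (hNC w hw)] at this
    linear_combination this + hquad -
      CharTwo.two_eq_zero (R := F) * (N q w - w * w ^ Nat.card E)
  have hmm : (w ^ Nat.card E) ^ Nat.card E = w := by
    rcases mul_eq_zero.1 (hd _ rfl) with h | h
    · rw [eq_of_add_eq_zero h, eq_of_add_eq_zero h]
    · have h' : w ^ Nat.card E = w + 1 := by
        linear_combination h - CharTwo.two_eq_zero (R := F) * (w + 1)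
      rw [h', hfr, one_pow, h', add_assoc, CharTwo.add_self_eq_zero, add_zero]
  rw [← pow_mul, hE] at hmm
  rw [hmm, CharTwo.add_self_eq_zero] at hw1
  exact zero_ne_one hw1

include hF in
/-- An involutive additive map compatible with the norm preserves the norm. -/
theorem norm_preserved (A : F →+ F) (hA : ∀ x, A (A x) = x) (Bm : F → F)
    (hBadd : ∀ c ∈ Fx hF, ∀ d ∈ Fx hF, Bm (c + d) = Bm c + Bm d)
    (hBN : ∀ x, Bm (N q x) = N q (A x)) (x : F) : N q (A x) = N q x := by
  classical
  have hBmem : ∀ c ∈ Fx hF, Bm c ∈ Fx hF := fun c hc => by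
    obtain ⟨a, rfl⟩ := N_surj hF hc
    rw [hBN]; exact N_mem hF _
  have hBB : ∀ c ∈ Fx hF, Bm (Bm c) = c := fun c hc => by
    obtain ⟨a, rfl⟩ := N_surj hF hc
    rw [hBN, hBN, hA]
  have hBB' : ∀ a b, Bm (B q a b) = B q (A a) (A b) := fun a b => by
    have e : B q a b = N q (a + b) + (N q a + N q b) := by
      rw [N_add hF]
      linear_combination -(CharTwo.two_eq_zero (R := F)) * (N q a + N q b)
    rw [e, hBadd _ (N_mem hF _) _ ((Fx hF).add_mem (N_mem hF _) (N_mem hF _)),
      hBadd _ (N_mem hF _) _ (N_mem hF _), hBN, hBN, hBN, map_add, N_add hF]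
    linear_combination (CharTwo.two_eq_zero (R := F)) * (N q (A a) + N q (A b))
  let β : Fx hF →+ F :=
    { toFun := fun c => Bm c + c
      map_zero' := by
        have h := hBN 0
        rw [map_zero, N, zero_mul] at h
        show Bm 0 + 0 = 0
        rw [h, add_zero]
      map_add' := fun a b => by
        show Bm ((a : F) + b) + ((a : F) + b) = Bm a + a + (Bm b + b)
        rw [hBadd _ a.2 _ b.2]; ring }
  let W : AddSubgroup F := β.ker.map (Fx hF).subtype
  let E : AddSubgroup F := β.range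
  have hWmem : ∀ c, c ∈ W ↔ c ∈ Fx hF ∧ Bm c = c := fun c => by
    constructor
    · rintro ⟨d, hd, rfl⟩
      exact ⟨d.2, eq_of_add_eq_zero (AddMonoidHom.mem_ker.1 hd)⟩
    · rintro ⟨h1, h2⟩
      exact ⟨⟨c, h1⟩, AddMonoidHom.mem_ker.2 (show Bm c + c = 0 by
        rw [h2, CharTwo.add_self_eq_zero]), rfl⟩
  have hWcard : Nat.card W = Nat.card β.ker :=
    Nat.card_congr (β.ker.equivMapOfInjective _ (Fx hF).subtype_injective).toEquiv.symm
  have hEW : Nat.card W * Nat.card E = q := by
    rw [hWcard, ← AddSubgroup.index_ker, AddSubgroup.card_mul_index, card_Fx]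
  have hEleW : E ≤ W := by
    rintro _ ⟨c, rfl⟩
    refine (hWmem _).2 ⟨(Fx hF).add_mem (hBmem _ c.2) c.2, ?_⟩
    show Bm (Bm c + c) = Bm c + c
    rw [hBadd _ (hBmem _ c.2) _ c.2, hBB _ c.2, add_comm]
  let α : F →+ F := A + AddMonoidHom.id F
  have hαC : ∀ y, y ∈ α.ker ↔ A y = y := fun y => by
    rw [AddMonoidHom.mem_ker]
    show A y + y = 0 ↔ _
    exact CharTwo.add_eq_zero
  have hDC : α.range ≤ α.ker := by
    rintro _ ⟨y, rfl⟩
    rw [hαC]
    show A (A y + y) = A y + y
    rw [map_add, hA, add_comm]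
  have hCD : Nat.card α.ker * Nat.card α.range = q ^ 2 := by
    rw [← AddSubgroup.index_ker, AddSubgroup.card_mul_index, Nat.card_eq_fintype_card, hF]
  have hNC : ∀ y ∈ α.ker, N q y ∈ W := fun y hy =>
    (hWmem _).2 ⟨N_mem hF y, by rw [hBN, (hαC y).1 hy]⟩
  have hBDC : ∀ d ∈ α.range, ∀ c ∈ α.ker, B q d c ∈ E := by
    rintro _ ⟨y, rfl⟩ c hc
    refine ⟨⟨B q y c, B_mem hF y c⟩, ?_⟩
    show Bm (B q y c) + B q y c = B q (A y + y) c
    rw [hBB', (hαC c).1 hc]
    simp only [B, Herm.conj_add hF]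
    ring
  by_cases hcase : ∃ u ∈ α.range, ∃ v ∈ α.range, B q u v ≠ 0
  · obtain ⟨u, hu, v, hv, huv⟩ := hcase
    exfalso
    have hu0 : u ≠ 0 := by
      rintro rfl; simp [B, Herm.conj_zero hF] at huv
    have hv0 : v ≠ 0 := by
      rintro rfl; simp [B, Herm.conj_zero hF] at huv
    let ψ : α.ker → E × E := fun c => (⟨_, hBDC u hu c c.2⟩, ⟨_, hBDC v hv c c.2⟩)
    have hψ : Function.Injective ψ := by
      intro c d h
      by_contra hne
      have hz : ((c : F) - d) ≠ 0 := sub_ne_zero.2 fun e => hne (Subtype.ext e)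
      have e1 : B q u ((c : F) - d) = 0 := by
        have := congrArg (fun p : E × E => (p.1 : F)) h
        simp only [ψ, B] at this
        simp only [B, Herm.conj_sub hF]
        linear_combination this
      have e2 : B q v ((c : F) - d) = 0 := by
        have := congrArg (fun p : E × E => (p.2 : F)) h
        simp only [ψ, B] at this
        simp only [B, Herm.conj_sub hF]
        linear_combination this
      have f1 := B_eq_zero hF hz e1
      have f2 := B_eq_zero hF hz e2
      have f3 : (u / v) ^ q = u / v := by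
        rw [show u / v = (u / ((c : F) - d)) / (v / ((c : F) - d)) by field_simp, div_pow, f1, f2]
      apply huv
      have hvq : v ^ q ≠ 0 := pow_ne_zero _ hv0
      rw [div_pow, div_eq_div_iff hvq hv0] at f3
      show u * v ^ q + v * u ^ q = 0
      linear_combination f3 + (CharTwo.two_eq_zero (R := F)) * (u * v ^ q)
    have h1 : Nat.card α.ker ≤ Nat.card E * Nat.card E := by
      rw [← Nat.card_prod]; exact Nat.card_le_card_of_injective ψ hψ
    have h2 : Nat.card α.range ≤ Nat.card α.ker := AddSubgroup.card_le_of_le hDC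
    have h3 : Nat.card E ≤ Nat.card W := AddSubgroup.card_le_of_le hEleW
    have hEpos : 0 < Nat.card E := Nat.card_pos
    have hEEq : Nat.card E * Nat.card E ≤ q := by nlinarith
    have hCq : q ≤ Nat.card α.ker := by nlinarith
    have hEE : Nat.card E * Nat.card E = q := by omega
    have hCeq : Nat.card α.ker = q := by omega
    have hDeq : Nat.card α.range = Nat.card α.ker := by nlinarith [q_ne_zero hF]
    have hDCeq : α.range = α.ker := AddSubgroup.eq_of_le_of_card_ge hDC hDeq.ge
    have hWE : E = W := AddSubgroup.eq_of_le_of_card_ge hEleW (by nlinarith)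
    have hNu : N q u ≠ 0 := mul_ne_zero hu0 (pow_ne_zero _ hu0)
    refine no_half_field hF (C := α.ker.map (AddMonoidHom.mulLeft u⁻¹))
      (E := E.map (AddMonoidHom.mulLeft (N q u)⁻¹)) ⟨u, hDC hu, inv_mul_cancel₀ hu0⟩ ?_ ?_ ?_ ?_
      ⟨v, hDC hv, rfl⟩ ?_
    · rw [← Nat.card_congr (E.equivMapOfInjective _
        (mul_right_injective₀ (inv_ne_zero hNu))).toEquiv]
      exact hEE
    · rw [← Nat.card_congr (α.ker.equivMapOfInjective _
        (mul_right_injective₀ (inv_ne_zero hu0))).toEquiv]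
      exact hCeq
    · rintro _ ⟨y, hy, rfl⟩
      refine ⟨N q y, hWE ▸ hNC y hy, ?_⟩
      show (N q u)⁻¹ * N q y = N q (u⁻¹ * y)
      simp only [N, mul_pow, mul_inv, inv_pow]
      ring
    · rintro _ ⟨y, hy, rfl⟩ _ ⟨z, hz, rfl⟩
      refine ⟨B q y z, hBDC y (hDCeq ▸ hy) z hz, ?_⟩
      show (N q u)⁻¹ * B q y z = B q (u⁻¹ * y) (u⁻¹ * z)
      simp only [N, B, mul_pow, mul_inv, inv_pow]
      ring
    · show (u⁻¹ * v) ^ q ≠ u⁻¹ * v
      intro h
      apply huv
      rw [mul_pow, inv_pow, ← div_eq_inv_mul, ← div_eq_inv_mul,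
        div_eq_div_iff (pow_ne_zero _ hu0) hu0] at h
      show u * v ^ q + v * u ^ q = 0
      linear_combination h + (CharTwo.two_eq_zero (R := F)) * (v * u ^ q)
  · push Not at hcase
    by_cases hD : ∀ y, A y = y
    · rw [hD]
    push Not at hD
    obtain ⟨y₀, hy₀⟩ := hD
    have hu0 : α y₀ ≠ 0 := fun h => hy₀ (eq_of_add_eq_zero h)
    have huD : α y₀ ∈ α.range := ⟨y₀, rfl⟩
    generalize α y₀ = u at hu0 huD
    have h1 : Nat.card α.range ≤ Nat.card W := by
      let g : α.range → W := fun d => ⟨N q (d : F), hNC _ (hDC d.2)⟩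
      refine Nat.card_le_card_of_injective g fun a b h => ?_
      have h' : N q (a : F) = N q (b : F) := congrArg Subtype.val h
      have h0 : N q ((a : F) + b) = 0 := by
        rw [N_add hF, hcase _ a.2 _ b.2, h', CharTwo.add_self_eq_zero, zero_add]
      rcases mul_eq_zero.1 h0 with e | e
      · exact Subtype.ext (eq_of_add_eq_zero e)
      · exact Subtype.ext (eq_of_add_eq_zero (eq_zero_of_pow_eq_zero e))
    let ψ : α.ker →+ E := AddMonoidHom.codRestrict
      { toFun := fun c : α.ker => B q u (c : F)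
        map_zero' := by simp [B, Herm.conj_zero hF]
        map_add' := fun a b => by
          show B q u ((a : F) + b) = B q u (a : F) + B q u (b : F)
          simp only [B, Herm.conj_add hF]; ring }
      E fun c => hBDC u huD c c.2
    have h2 : Nat.card ψ.range ≤ Nat.card E :=
      Nat.card_le_card_of_injective _ ψ.range.subtype_injective
    have h3 : Nat.card ψ.ker * Nat.card ψ.range = Nat.card α.ker := by
      rw [← AddSubgroup.index_ker, AddSubgroup.card_mul_index]
    let κ : ψ.ker → Fx hF := fun c => ⟨((c : α.ker) : F) / u, by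
      have h : B q u ((c : α.ker) : F) = 0 := congrArg Subtype.val c.2
      exact B_eq_zero hF hu0 (by rw [B, add_comm]; exact h)⟩
    have hκ : Function.Injective κ := fun a b h => by
      have h' : ((a : α.ker) : F) / u = ((b : α.ker) : F) / u := congrArg Subtype.val h
      exact Subtype.ext (Subtype.ext ((div_left_inj' hu0).1 h'))
    have h4 : Nat.card ψ.ker ≤ q := (Nat.card_le_card_of_injective κ hκ).trans_eq (card_Fx hF)
    have hpos : 0 < Nat.card W ∧ 0 < Nat.card E := ⟨Nat.card_pos, Nat.card_pos⟩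
    have h5 : q ≤ Nat.card ψ.ker := by
      by_contra hlt
      push Not at hlt
      have h6 : Nat.card α.ker * Nat.card α.range ≤ Nat.card ψ.ker * Nat.card E * Nat.card W :=
        Nat.mul_le_mul (h3 ▸ Nat.mul_le_mul_left _ h2) h1
      rw [hCD, mul_assoc, mul_comm (Nat.card E), hEW, sq] at h6
      have := Nat.le_of_mul_le_mul_right h6 (Nat.pos_of_ne_zero (q_ne_zero hF))
      omega
    have hbij := (Nat.bijective_iff_injective_and_card κ).2
      ⟨hκ, by rw [card_Fx hF]; omega⟩
    have hFW : ∀ c ∈ Fx hF, Bm c = c := by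
      intro c hc
      have hNu : N q u ≠ 0 := mul_ne_zero hu0 (pow_ne_zero _ hu0)
      have hcN : c / N q u ∈ Fx hF := by
        rw [mem_Fx, div_pow, show N q u ^ q = N q u from N_mem hF u, show c ^ q = c from hc]
      obtain ⟨r, hr, hrr⟩ := fixed_sq_surj hF hcN
      obtain ⟨d, hd⟩ := hbij.2 ⟨r, hr⟩
      have hd' : ((d : α.ker) : F) = r * u :=
        (div_eq_iff hu0).1 (congrArg Subtype.val hd)
      have hW := hNC _ (d : α.ker).2
      rw [hd', N, mul_pow, show r ^ q = r from hr,
        show r * u * (r * u ^ q) = r * r * N q u by rw [N]; ring, hrr, div_mul_cancel₀ _ hNu] at hW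
      exact ((hWmem c).1 hW).2
    rw [← hBN, hFW _ (N_mem hF x)]

end Cfsg.Agent.Lib.U3Sylow
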